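import Cfsg.Agent.Lib.Fusion.QdSection
import Cfsg.Agent.Lib.Fusion.Basic

/-!
# A section isomorphic to the triangular affine group
-/

set_option autoImplicit false
set_option linter.style.haveILetI false

open Matrix
open scoped commutatorElement

namespace Cfsg.Agent.Solv.ZJFail

open Cfsg.Agent.Fusion

universe u

variable {G : Type u} [Group G] [Finite G] {p : ℕ} [hp : Fact p.Prime]

omit [Finite G] in
/-- A power of `g` of order prime to `p` with exponent a power of `p`. -/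
theorem exists_pPrime_pow [Finite G] (g : G) : ∃ e : ℕ, (orderOf (g ^ p ^ e)).Coprime p := by
  obtain ⟨e, m, hm, h⟩ := Nat.exists_eq_pow_mul_and_not_dvd (orderOf_pos g).ne' p hp.out.one_lt.ne'
  refine ⟨e, ?_⟩
  rw [orderOf_pow' g (pow_ne_zero _ hp.out.pos.ne'), h, Nat.gcd_mul_right_left,
    Nat.mul_div_cancel_left _ (Nat.pow_pos hp.out.pos)]
  exact ((Nat.Prime.coprime_iff_not_dvd hp.out).2 hm).symm

omit hp in
theorem eq_one_of_pow_eq_one_coprime {M : Type*} [Monoid M] {x : M} {a b : ℕ} (hab : a.Coprime b) (ha : x ^ a = 1)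
    (hb : x ^ b = 1) : x = 1 :=
  orderOf_eq_one_iff.1 (Nat.eq_one_of_dvd_coprimes hab (orderOf_dvd_of_pow_eq_one ha) (orderOf_dvd_of_pow_eq_one hb))

/-- The square root of one attached to a triangular element of order prime to `p`. -/
theorem triangular_half {F : Type*} [Field F] [CharP F p] (hp2 : p ≠ 2)
    {T : Matrix.SpecialLinearGroup (Fin 2) F} (h10 : T.1 1 0 = 0) {c : ZMod p} (hc : ∀ u : ZMod p, u ≠ 0 → ∃ i : ℕ, c ^ i = u)
    (hT : T.1 0 0 = ZMod.castHom dvd_rfl F c) {n : ℕ} (hn : n.Coprime p) (hTn : T ^ n = 1) :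
    T ^ (p - 1) = 1 ∧ ∀ m : ℕ, Odd m → T ^ ((p - 1) / 2 * m) = Dickson.negI := by
  have hpp := hp.out
  haveI : Fact (2 < p) := ⟨lt_of_le_of_ne hpp.two_le (Ne.symm hp2)⟩
  have hpow : ∀ k : ℕ, (T ^ k).1 1 0 = 0 ∧ (T ^ k).1 0 0 = T.1 0 0 ^ k := fun k => by
    induction k with
    | zero => simp
    | succ k ih =>
      rw [pow_succ, Dickson.mul_entry, Dickson.mul_entry, ih.1, ih.2, h10, pow_succ]
      exact ⟨by ring, by ring⟩
  have hc0 : c ≠ 0 := fun h => by
    obtain ⟨i, hi⟩ := hc (-1) (neg_ne_zero.2 one_ne_zero)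
    rw [h] at hi
    rcases Nat.eq_zero_or_pos i with rfl | hi0
    · rw [pow_zero] at hi
      exact (ZMod.neg_one_ne_one (n := p)) hi.symm
    · rw [zero_pow hi0.ne'] at hi
      exact one_ne_zero (neg_eq_zero.1 hi.symm)
  have h1 : T ^ (p - 1) = 1 := by
    have hd : (T ^ (p - 1)).1 0 0 = 1 := by
      rw [(hpow _).2, hT, ← map_pow, ZMod.pow_card_sub_one_eq_one hc0, map_one]
    have htr : Dickson.tr (T ^ (p - 1)) = 2 := by
      have := Dickson.det_eq (T ^ (p - 1))
      rw [(hpow _).1, hd] at this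
      rw [Dickson.tr, hd]
      linear_combination this
    refine eq_one_of_pow_eq_one_coprime hn.symm (Dickson.pow_eq_one_of_tr p htr) ?_
    rw [← pow_mul, mul_comm, pow_mul, hTn, one_pow]
  refine ⟨h1, fun m hm => ?_⟩
  set k := (p - 1) / 2
  obtain ⟨q, hq⟩ := hpp.odd_of_ne_two hp2
  have hk : k * 2 = p - 1 := by omega
  have hcm : c ^ k = -1 := by
    obtain ⟨i, hi⟩ := hc (-1) (neg_ne_zero.2 one_ne_zero)
    have hsq : c ^ k * c ^ k = 1 := by rw [← pow_add, ← mul_two, hk, ZMod.pow_card_sub_one_eq_one hc0]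
    rcases mul_self_eq_one_iff.1 hsq with h | h
    · exfalso
      obtain ⟨j, hj⟩ : ∃ j : ℕ, c ^ j = -1 := ⟨i, hi⟩
      have hall : ∀ u : ZMod p, u ≠ 0 → u ^ k = 1 := fun u hu => by
        obtain ⟨l, rfl⟩ := hc u hu
        rw [← pow_mul, mul_comm, pow_mul, h, one_pow]
      obtain ⟨u, hu⟩ := FiniteField.exists_nonsquare (F := ZMod p) (by rw [ZMod.ringChar_zmod_n]; exact hp2)
      have hu0 : u ≠ 0 := fun e => hu (e ▸ IsSquare.zero)
      refine hu ((FiniteField.isSquare_iff (by rw [ZMod.ringChar_zmod_n]; exact hp2) hu0).2 ?_)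
      rw [ZMod.card, show p / 2 = k by omega]
      exact hall u hu0
    · exact h
  have hsq2 : (T ^ k) * (T ^ k) = 1 := by rw [← pow_add, ← mul_two, hk, h1]
  have hneg : T ^ k = Dickson.negI := by
    have h00 : (T ^ k).1 0 0 = -1 := by rw [(hpow _).2, hT, ← map_pow, hcm, map_neg, map_one]
    have h11 : (T ^ k).1 1 1 = -1 := by
      have := Dickson.det_eq (T ^ k)
      rw [(hpow _).1, h00] at this
      linear_combination -this
    have h01 : (T ^ k).1 0 1 = 0 := by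
      have := congrArg (fun M : Matrix.SpecialLinearGroup (Fin 2) F => M.1 0 1) hsq2
      simp only [Dickson.mul_entry, h00, h11] at this
      rw [show ((1 : Matrix.SpecialLinearGroup (Fin 2) F)).1 0 1 = 0 from rfl] at this
      have h2 : (2 : F) ≠ 0 := Ring.two_ne_zero (by rw [ringChar.eq F p]; exact hp2)
      have : (2 : F) * (T ^ k).1 0 1 = 0 := by linear_combination -this
      exact (mul_eq_zero.1 this).resolve_left h2
    apply Dickson.ext' <;> simp [Dickson.negI, h00, h11, h01, (hpow k).1]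
  rw [pow_mul, hneg]
  exact Dickson.negI_pow_odd hm

/-- A triangular action on an elementary section of rank two gives a section `F(p)`. -/
theorem involves_fOver_of_borel (hp2 : p ≠ 2) (H V : Subgroup G) (hVH : V ≤ H) (f : G → (Fin 2 → ZMod p))
    (fmul : ∀ u ∈ V, ∀ v ∈ V, f (u * v) = f u + f v) (fsurj : ∀ w, ∃ v ∈ V, f v = w) (g h : G) (hg : g ∈ H)
    (hh : h ∈ H) {c : ZMod p} (hc : ∀ u : ZMod p, u ≠ 0 → ∃ i : ℕ, c ^ i = u)
    (T₁ : Matrix.SpecialLinearGroup (Fin 2) (ZMod p)) (hT10 : T₁.1 1 0 = 0) (hT00 : T₁.1 0 0 = c)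
    (hgV : ∀ v ∈ V, g * v * g⁻¹ ∈ V ∧ f (g * v * g⁻¹) = (Dickson.upU (1 : ZMod p)).1 *ᵥ f v)
    (hhV : ∀ v ∈ V, h * v * h⁻¹ ∈ V ∧ f (h * v * h⁻¹) = T₁.1 *ᵥ f v) :
    Cfsg.Involves ↥(Cfsg.fOver (ZMod p)) ↥H := by
  classical
  have f1 : f 1 = 0 := by have := fmul 1 (one_mem _) 1 (one_mem _); rwa [one_mul, left_eq_add] at this
  have finv : ∀ v ∈ V, f v⁻¹ = -f v := fun v hv => by
    have := fmul v⁻¹ (inv_mem hv) v hv
    rw [inv_mul_cancel, f1] at this
    exact eq_neg_of_add_eq_zero_left this.symm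
  let Y : Subgroup G :=
    { carrier := {y | y ∈ H ∧ ∃ R : Matrix.SpecialLinearGroup (Fin 2) (ZMod p),
        ∀ v ∈ V, y * v * y⁻¹ ∈ V ∧ f (y * v * y⁻¹) = R.1 *ᵥ f v}
      one_mem' := ⟨one_mem _, 1, fun v hv => by simp [hv]⟩
      mul_mem' := by
        rintro a b ⟨ha, R, hR⟩ ⟨hb, S, hS⟩
        refine ⟨mul_mem ha hb, R * S, fun v hv => ?_⟩
        obtain ⟨h1, e1⟩ := hS v hv
        obtain ⟨h2, e2⟩ := hR _ h1
        rw [show a * b * v * (a * b)⁻¹ = a * (b * v * b⁻¹) * a⁻¹ by group]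
        refine ⟨h2, ?_⟩
        rw [e2, e1, mulVec_mulVec]; rfl
      inv_mem' := by
        rintro a ⟨ha, R, hR⟩
        refine ⟨inv_mem ha, R⁻¹, fun v hv => ?_⟩
        have haN : a ∈ Subgroup.normalizer (V : Set G) := mem_normalizer_of_cj_le (by
          rintro _ ⟨w, hw, rfl⟩
          exact (hR w hw).1)
        have h1 : a⁻¹ * v * a⁻¹⁻¹ ∈ V := (Subgroup.mem_normalizer_iff.1 (inv_mem haN) v).1 hv
        refine ⟨h1, ?_⟩
        have h2 := (hR _ h1).2
        rw [show a * (a⁻¹ * v * a⁻¹⁻¹) * a⁻¹ = v by group] at h2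
        rw [h2, mulVec_mulVec,
          show (R⁻¹).1 * R.1 = 1 from congrArg Subtype.val (inv_mul_cancel R), one_mulVec] }
  choose τ₀ hτ₀ using fun y : Y => y.2.2
  have huniq : ∀ (y : Y) (R : Matrix.SpecialLinearGroup (Fin 2) (ZMod p)),
      (∀ v ∈ V, f ((y : G) * v * (y : G)⁻¹) = R.1 *ᵥ f v) → τ₀ y = R := fun y R hR => by
    refine Subtype.ext (Matrix.ext_iff_mulVec.2 fun w => ?_)
    obtain ⟨v, hv, rfl⟩ := fsurj w
    rw [← (hτ₀ y v hv).2, hR v hv]
  let τ : Y →* Matrix.SpecialLinearGroup (Fin 2) (ZMod p) :=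
    { toFun := τ₀
      map_one' := huniq 1 1 fun v hv => by simp
      map_mul' := fun a b => huniq _ _ fun v hv => by
        show f ((a : G) * b * v * ((a : G) * b)⁻¹) = ((τ₀ a).1 * (τ₀ b).1) *ᵥ f v
        rw [← mulVec_mulVec, ← (hτ₀ b v hv).2, ← (hτ₀ a _ (hτ₀ b v hv).1).2]
        congr 1
        group }
  have hτ : ∀ (y : Y) v, v ∈ V → (y : G) * v * (y : G)⁻¹ ∈ V ∧
      f ((y : G) * v * (y : G)⁻¹) = (τ y).1 *ᵥ f v := hτ₀
  let g₀ : Y := ⟨g, hg, _, hgV⟩
  let h₀ : Y := ⟨h, hh, _, hhV⟩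
  have hτg : τ g₀ = Dickson.upU 1 := huniq _ _ fun v hv => (hgV v hv).2
  have hτh : τ h₀ = T₁ := huniq _ _ fun v hv => (hhV v hv).2
  -- the triangular elements and the unipotent ones
  let Yt : Subgroup Y :=
    { carrier := {y | (τ y).1 1 0 = 0}
      one_mem' := by simp
      mul_mem' := fun {a b} ha hb => by
        show (τ (a * b)).1 1 0 = 0
        simp only [Set.mem_ofPred_eq] at ha hb
        rw [map_mul, Dickson.mul_entry, ha, hb]; ring
      inv_mem' := fun {a} ha => by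
        show (τ a⁻¹).1 1 0 = 0
        simp only [Set.mem_ofPred_eq] at ha
        have h2 := congrArg (fun M : Matrix.SpecialLinearGroup (Fin 2) (ZMod p) => M.1 1 0)
          (show τ a * τ a⁻¹ = 1 by rw [← map_mul, mul_inv_cancel, map_one])
        simp only [Dickson.mul_entry, ha, zero_mul, zero_add] at h2
        rw [show ((1 : Matrix.SpecialLinearGroup (Fin 2) (ZMod p))).1 1 0 = 0 from rfl] at h2
        have hd := Dickson.det_eq (τ a)
        rw [ha, mul_zero, sub_zero] at hd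
        exact (mul_eq_zero.1 h2).resolve_left fun e => by simp [e] at hd }
  let Yu : Subgroup Y :=
    { carrier := {y | (τ y).1 1 0 = 0 ∧ (τ y).1 0 0 = 1}
      one_mem' := by simp
      mul_mem' := fun {a b} ha hb => by
        refine ⟨Yt.mul_mem ha.1 hb.1, ?_⟩
        rw [map_mul, Dickson.mul_entry, ha.2, hb.1, hb.2]; ring
      inv_mem' := fun {a} ha => by
        have h1 : (τ a⁻¹).1 1 0 = 0 := Yt.inv_mem ha.1
        refine ⟨h1, ?_⟩
        have h2 := congrArg (fun M : Matrix.SpecialLinearGroup (Fin 2) (ZMod p) => M.1 0 0)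
          (show τ a * τ a⁻¹ = 1 by rw [← map_mul, mul_inv_cancel, map_one])
        simp only [Dickson.mul_entry, ha.2, h1, one_mul, mul_zero, add_zero] at h2
        exact h2 }
  have hYtu : Yt ≤ Subgroup.normalizer (Yu : Set Y) := fun t ht => mem_normalizer_of_cj_le (by
    rintro _ ⟨u, hu, rfl⟩
    show (τ (t * u * t⁻¹)).1 1 0 = 0 ∧ (τ (t * u * t⁻¹)).1 0 0 = 1
    have h1 : (τ t⁻¹).1 1 0 = 0 := Yt.inv_mem ht
    refine ⟨Yt.mul_mem (Yt.mul_mem ht hu.1) (Yt.inv_mem ht), ?_⟩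
    have h2 := congrArg (fun M : Matrix.SpecialLinearGroup (Fin 2) (ZMod p) => M.1 0 0)
      (show τ t * τ t⁻¹ = 1 by rw [← map_mul, mul_inv_cancel, map_one])
    simp only [Dickson.mul_entry, h1, mul_zero, add_zero] at h2
    rw [map_mul, map_mul, Dickson.mul_entry, Dickson.mul_entry, hu.2, hu.1, h1]
    rw [show ((1 : Matrix.SpecialLinearGroup (Fin 2) (ZMod p))).1 0 0 = 1 from rfl] at h2
    simpa using h2)
  have hg0u : g₀ ∈ Yu := by show (τ g₀).1 1 0 = 0 ∧ _; rw [hτg]; exact ⟨rfl, rfl⟩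
  have hh0t : h₀ ∈ Yt := by show (τ h₀).1 1 0 = 0; rw [hτh]; exact hT10
  -- a `p`-element giving a transvection
  obtain ⟨e, m, hm, hem⟩ := Nat.exists_eq_pow_mul_and_not_dvd (orderOf_pos g₀).ne' p hp.out.one_lt.ne'
  have hgm : IsPGroup p (Subgroup.zpowers (g₀ ^ m)) := by
    refine IsPGroup.of_card (n := e) ?_
    rw [Nat.card_zpowers, orderOf_pow' _ (fun h => hm (by rw [h]; exact dvd_zero p)), hem, Nat.gcd_mul_left_left,
      Nat.mul_div_cancel _ (Nat.pos_of_ne_zero fun h => hm (by rw [h]; exact dvd_zero p))]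
  have hτgm : τ (g₀ ^ m) = Dickson.upU (m : ZMod p) := by rw [map_pow, hτg, Dickson.upU_pow, mul_one]
  obtain ⟨P, hP, hgP⟩ := exists_sylIn_ge (H := Yu) hgm
    (Subgroup.zpowers_le.2 (pow_mem hg0u m))
  obtain ⟨k, hk, hkh⟩ := frattini_conj hP hYtu hh0t
  obtain ⟨e', he'⟩ := exists_pPrime_pow (p := p) (k * h₀)
  set t := (k * h₀) ^ p ^ e' with ht
  have htN : t ∈ Subgroup.normalizer (P : Set Y) := pow_mem hkh _
  have hkht : k * h₀ ∈ Yt := mul_mem hk.1 hh0t
  have htt : t ∈ Yt := pow_mem hkht _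
  have hc00 : (τ (k * h₀)).1 0 0 = c := by
    rw [map_mul, Dickson.mul_entry, hk.2, hτh, hT00, hT10]; ring
  have hcp : ∀ n : ℕ, c ^ p ^ n = c := fun n => ZMod.pow_card_pow c
  have ht00 : (τ t).1 0 0 = c := by
    have hp' : ∀ n : ℕ, (τ ((k * h₀) ^ n)).1 0 0 = c ^ n := fun n => by
      induction n with
      | zero => simp
      | succ n ih =>
        rw [pow_succ, map_mul, Dickson.mul_entry, ih, hc00, show (τ (k * h₀)).1 1 0 = 0 from hkht, pow_succ]
        ring
    rw [ht, hp', hcp]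
  obtain ⟨-, hneg⟩ := triangular_half (p := p) (F := ZMod p) hp2 (T := τ t) htt hc
    (by rw [ht00, ZMod.castHom_self]; rfl) he' (by rw [← map_pow, pow_orderOf_eq_one, map_one])
  -- the element inverting the section
  set s₀ := t ^ ((p - 1) / 2)
  obtain ⟨j, l, hl, hjl⟩ := Nat.exists_eq_pow_mul_and_not_dvd (orderOf_pos s₀).ne' 2 (by norm_num)
  set s := s₀ ^ l
  have hlo : Odd l := Nat.odd_iff.2 (Nat.two_dvd_ne_zero.1 hl)
  have hτs : τ s = Dickson.negI := by
    show τ ((t ^ ((p - 1) / 2)) ^ l) = _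
    rw [← pow_mul, map_pow, hneg l hlo]
  have hsN : s ∈ Subgroup.normalizer (P : Set Y) := pow_mem (pow_mem htN _) _
  -- a fixed point in the coset
  set u₀ := g₀ ^ m
  let O := {q : Y // q ∈ P ∧ τ q = τ u₀}
  letI : MulAction (Subgroup.zpowers s) O :=
    { smul := fun z q => ⟨(z : Y) * q.1 * (z : Y)⁻¹,
        (Subgroup.mem_normalizer_iff.1 ((Subgroup.zpowers_le.2 hsN) z.2) q.1).1 q.2.1, by
          obtain ⟨i, hi⟩ := Subgroup.mem_zpowers_iff.1 z.2
          have hcz : Commute (τ u₀) Dickson.negI := (Dickson.negI_comm (τ u₀)).symm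
          rw [map_mul, map_mul, map_inv, q.2.2, ← hi, map_zpow, hτs, ← (hcz.zpow_right i).eq,
            mul_inv_cancel_right]⟩
      one_smul := fun q => Subtype.ext (show ((1 : Subgroup.zpowers s) : Y) * q.1 * _ = q.1 by simp)
      mul_smul := fun z z' q => Subtype.ext (by
        show ((z * z' : Subgroup.zpowers s) : Y) * q.1 * _ = (z : Y) * ((z' : Y) * q.1 * (z' : Y)⁻¹) * _
        simp [mul_assoc]) }
  have hs2 : IsPGroup 2 (Subgroup.zpowers s) := by
    refine IsPGroup.of_card (n := j) ?_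
    rw [Nat.card_zpowers, orderOf_pow' _ (fun h => hl (by rw [h]; exact dvd_zero 2)), hjl, Nat.gcd_mul_left_left,
      Nat.mul_div_cancel _ (Nat.pos_of_ne_zero fun h => hl (by rw [h]; exact dvd_zero 2))]
  have hu₀P : u₀ ∈ P := hgP (Subgroup.mem_zpowers _)
  have hO : ¬ 2 ∣ Nat.card O := by
    let D : Subgroup Y := P ⊓ τ.ker
    have e : O ≃ D :=
      { toFun := fun q => ⟨u₀⁻¹ * q.1, Subgroup.mem_inf.2 ⟨P.mul_mem (P.inv_mem hu₀P) q.2.1, by
          rw [MonoidHom.mem_ker, map_mul, map_inv, q.2.2, inv_mul_cancel]⟩⟩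
        invFun := fun d => ⟨u₀ * d, mul_mem hu₀P d.2.1, by
          rw [map_mul, show τ (d : Y) = 1 from d.2.2, mul_one]⟩
        left_inv := fun q => Subtype.ext (mul_inv_cancel_left _ _)
        right_inv := fun d => Subtype.ext (inv_mul_cancel_left _ _) }
    obtain ⟨n, hn⟩ := IsPGroup.iff_card.1 (hP.isPGroup.to_le (inf_le_left : D ≤ P))
    rw [Nat.card_congr e, hn]
    intro h2
    exact hp2 ((Nat.prime_dvd_prime_iff_eq Nat.prime_two hp.out).1 (Nat.prime_two.dvd_of_dvd_pow h2)).symm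
  haveI : Fact (Nat.Prime 2) := ⟨Nat.prime_two⟩
  obtain ⟨a₀, ha₀⟩ := hs2.nonempty_fixed_point_of_prime_not_dvd_card O hO
  have hcomm : s * a₀.1 = a₀.1 * s := by
    have h1 := congrArg Subtype.val (ha₀ ⟨s, Subgroup.mem_zpowers s⟩)
    exact mul_inv_eq_iff_eq_mul.1 h1
  have hτa : τ a₀.1 = Dickson.upU (m : ZMod p) := a₀.2.2.trans hτgm
  have hst : s * t = t * s := (((Commute.refl t).pow_left _).pow_left l).eq
  -- the section
  let U : Subgroup Y := Subgroup.closure {a₀.1, t}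
  have hUs : ∀ u ∈ U, s * u = u * s := by
    intro u hu
    induction hu using Subgroup.closure_induction with
    | mem u hu => rcases hu with rfl | rfl; exacts [hcomm, hst]
    | one => simp
    | mul u v _ _ iu iv => exact (Commute.mul_right iu iv)
    | inv u _ iu => exact Commute.inv_right iu
  let U' : Subgroup G := U.map Y.subtype
  have hU'N : U' ≤ Subgroup.normalizer (V : Set G) := by
    rintro _ ⟨u, -, rfl⟩
    exact mem_normalizer_of_cj_le (by rintro _ ⟨v, hv, rfl⟩; exact (hτ u v hv).1)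
  have hzero : ∀ u ∈ U, (u : G) ∈ V → τ u = 1 ∧ f u = 0 := by
    intro u hu huV
    refine ⟨huniq u 1 fun v hv => ?_, ?_⟩
    · rw [fmul _ (mul_mem huV hv) _ (inv_mem huV), fmul _ huV _ hv, finv _ huV,
        show (1 : Matrix.SpecialLinearGroup (Fin 2) (ZMod p)).1 = 1 from rfl, one_mulVec]
      abel
    · have h1 := (hτ s u huV).2
      rw [show (s : G) * u * (s : G)⁻¹ = u by
        rw [mul_inv_eq_iff_eq_mul]; exact congrArg Subtype.val (hUs u hu), hτs] at h1
      have h2 : (2 : ZMod p) ≠ 0 := Ring.two_ne_zero (by rw [ZMod.ringChar_zmod_n]; exact hp2)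
      funext i
      have h3 := congrFun h1 i
      have : (2 : ZMod p) * f u i = 0 := by
        fin_cases i <;> simp [Dickson.negI, mulVec, dotProduct, Fin.sum_univ_two] at h3 <;>
          simp only [Fin.zero_eta, Fin.mk_one, Fin.isValue] <;> linear_combination h3
      exact (mul_eq_zero.1 this).resolve_left h2
  let K : Subgroup G := V ⊔ U'
  have hKmem : ∀ k ∈ K, ∃ v ∈ V, ∃ u ∈ U, k = v * (u : G) := by
    intro k hk
    rw [← SetLike.mem_coe, Subgroup.coe_mul_of_right_le_normalizer_left V U' hU'N] at hk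
    obtain ⟨v, hv, _, ⟨u, hu, rfl⟩, rfl⟩ := hk
    exact ⟨v, hv, u, hu, rfl⟩
  choose vv hvv uu huu hkk using hKmem
  have hwd : ∀ (k : G) (hk : k ∈ K) v u, v ∈ V → u ∈ U → k = v * (u : G) →
      f (vv k hk) = f v ∧ τ (uu k hk) = τ u := by
    intro k hk v u hv hu e
    have e' : ((uu k hk * u⁻¹ : Y) : G) = (vv k hk)⁻¹ * v := by
      have := (hkk k hk).symm.trans e
      rw [Subgroup.coe_mul, Subgroup.coe_inv, eq_inv_mul_iff_mul_eq, ← mul_assoc, this, mul_inv_cancel_right]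
    have hz := hzero _ (mul_mem (huu k hk) (inv_mem hu)) (e' ▸ mul_mem (inv_mem (hvv k hk)) hv)
    refine ⟨?_, ?_⟩
    · have h1 := hz.2
      rw [e', fmul _ (inv_mem (hvv k hk)) _ hv, finv _ (hvv k hk), neg_add_eq_zero] at h1
      exact h1
    · exact mul_inv_eq_one.1 (by rw [← map_inv, ← map_mul]; exact hz.1)
  have hfo : ∀ (R : Matrix.SpecialLinearGroup (Fin 2) (ZMod p)), R.1 1 0 = 0 → ∀ w,
      affMat p R w ∈ Cfsg.fOver (ZMod p) := fun R hR w =>
    Subgroup.subset_closure ⟨hR, rfl, rfl, rfl⟩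
  have hUt : U ≤ Yt := by
    refine (Subgroup.closure_le _).2 ?_
    rintro u (rfl | rfl)
    · show (τ a₀.1).1 1 0 = 0
      rw [hτa]; rfl
    · exact htt
  let Φ : K →* ↥(Cfsg.fOver (ZMod p)) :=
    { toFun := fun k => ⟨affMat p (τ (uu k.1 k.2)) (f (vv k.1 k.2)), hfo _ (hUt (huu k.1 k.2)) _⟩
      map_one' := by
        obtain ⟨h1, h2⟩ := hwd 1 (one_mem K) 1 1 (one_mem _) (one_mem _) (by simp)
        refine Subtype.ext ?_
        show affMat p (τ (uu (1 : G) (one_mem K))) (f (vv (1 : G) (one_mem K))) = 1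
        rw [h1, h2, map_one, f1]
        refine Subtype.ext ?_
        ext i j
        fin_cases i <;> fin_cases j <;> rfl
      map_mul' := fun a b => by
        have hc' := hτ (uu a.1 a.2) _ (hvv b.1 b.2)
        obtain ⟨h1, h2⟩ := hwd (a.1 * b.1) (mul_mem a.2 b.2)
          (vv a.1 a.2 * ((uu a.1 a.2 : G) * vv b.1 b.2 * (uu a.1 a.2 : G)⁻¹)) (uu a.1 a.2 * uu b.1 b.2)
          (mul_mem (hvv _ _) hc'.1) (mul_mem (huu _ _) (huu _ _)) (by
            rw [Subgroup.coe_mul]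
            conv_lhs => rw [hkk a.1 a.2, hkk b.1 b.2]
            group)
        refine Subtype.ext ?_
        show affMat p (τ (uu (a.1 * b.1) _)) (f (vv (a.1 * b.1) _)) = affMat p _ _ * affMat p _ _
        rw [h1, h2, affMat_mul, map_mul, fmul _ (hvv _ _) _ hc'.1, hc'.2, add_comm] }
  have hsurj : Function.Surjective Φ := by
    suffices hle : Cfsg.fOver (ZMod p) ≤ Φ.range.map (Cfsg.fOver (ZMod p)).subtype by
      intro y
      obtain ⟨z, ⟨k, hk⟩, hz⟩ := hle y.2
      exact ⟨k, hk.trans (Subtype.ext hz)⟩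
    refine (Subgroup.closure_le _).2 ?_
    rintro M ⟨h10, h20, h21, h22⟩
    obtain ⟨R, w, rfl⟩ := exists_affMat_of_mem p h20 h21 h22
    have hR10 : R.1 1 0 = 0 := h10
    obtain ⟨u, hu, hue⟩ : ∃ u ∈ U, τ u = R := by
      have hd := Dickson.det_eq R
      rw [hR10, mul_zero, sub_zero] at hd
      have h00 : R.1 0 0 ≠ 0 := fun h => by simp [h] at hd
      obtain ⟨i, hi⟩ := hc _ h00
      have htt' : t ^ i ∈ Yt := pow_mem htt _
      have ht' : (τ (t ^ i)).1 0 0 = R.1 0 0 := by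
        rw [← hi, ← ht00]
        induction i with
        | zero => simp
        | succ i ih =>
          clear hi htt'
          have : (τ (t ^ i)).1 0 0 = (τ t).1 0 0 ^ i := by
            clear ih
            induction i with
            | zero => simp
            | succ i ih2 =>
              rw [pow_succ, map_mul, Dickson.mul_entry, ih2, show (τ t).1 1 0 = 0 from htt, pow_succ]; ring
          rw [pow_succ, map_mul, Dickson.mul_entry, this, show (τ t).1 1 0 = 0 from htt, pow_succ]; ring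
      have hrest : (τ (t ^ i))⁻¹ * R = Dickson.upU (((τ (t ^ i))⁻¹ * R).1 0 1) := by
        have e1 : (τ (t ^ i)⁻¹).1 1 0 = 0 := Yt.inv_mem htt'
        have e2 := congrArg (fun M : Matrix.SpecialLinearGroup (Fin 2) (ZMod p) => M.1 0 0)
          (show τ (t ^ i)⁻¹ * τ (t ^ i) = 1 by rw [← map_mul, inv_mul_cancel, map_one])
        simp only [Dickson.mul_entry, ht', show (τ (t ^ i)).1 1 0 = 0 from htt', mul_zero, add_zero] at e2
        rw [← map_inv]
        have e3 := Dickson.det_eq (τ (t ^ i)⁻¹ * R)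
        have a10 : (τ (t ^ i)⁻¹ * R).1 1 0 = 0 := by rw [Dickson.mul_entry, e1, hR10]; ring
        have a00 : (τ (t ^ i)⁻¹ * R).1 0 0 = 1 := by
          rw [Dickson.mul_entry, hR10, mul_zero, add_zero, e2]; rfl
        rw [a10, a00] at e3
        generalize τ (t ^ i)⁻¹ * R = M at a10 a00 e3 ⊢
        apply Dickson.ext'
        · exact a00
        · rfl
        · exact a10
        · show M.1 1 1 = 1
          linear_combination e3
      have hm0 : ((m : ℕ) : ZMod p) ≠ 0 := fun h => hm ((ZMod.natCast_eq_zero_iff _ _).1 h)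
      set x := ((τ (t ^ i))⁻¹ * R).1 0 1
      refine ⟨t ^ i * a₀.1 ^ (x / (m : ZMod p)).val, mul_mem (pow_mem (Subgroup.subset_closure (by simp)) _)
        (pow_mem (Subgroup.subset_closure (by simp)) _), ?_⟩
      rw [map_mul, map_pow τ a₀.1, hτa, Dickson.upU_pow, ZMod.natCast_zmod_val, div_mul_cancel₀ _ hm0, ← hrest,
        mul_inv_cancel_left]
    obtain ⟨v, hv, rfl⟩ := fsurj w
    have hK : v * (u : G) ∈ K := Subgroup.mul_mem_sup hv ⟨u, hu, rfl⟩
    obtain ⟨h1, h2⟩ := hwd _ hK v u hv hu rfl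
    refine ⟨Φ ⟨_, hK⟩, ⟨⟨_, hK⟩, rfl⟩, ?_⟩
    show affMat p _ _ = affMat p R (f v)
    rw [h1, h2, hue]
  have hKH : K ≤ H := sup_le hVH (by rintro _ ⟨u, -, rfl⟩; exact u.2.1)
  exact involves_of_surjective (Φ.comp (Subgroup.subgroupOfEquivOfLe hKH).toMonoidHom)
    (hsurj.comp (Subgroup.subgroupOfEquivOfLe hKH).surjective)

end Cfsg.Agent.Solv.ZJFail
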