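import Cfsg.Agent.Lib.Solv.ZJFail.Borel
import Cfsg.Agent.Lib.Fusion.Alperin

/-!
# The configuration with a quadratic conjugation-invariant set
-/

set_option autoImplicit false

open scoped commutatorElement

namespace Cfsg.Agent.Solv.ZJFail

open Cfsg.Agent.Fusion

variable {G : Type*} [Group G]

/-- The action of `y` on `B` is induced by an element of `H`. -/
def Realised (H B : Subgroup G) (y : G) : Prop := ∃ h ∈ H, ∀ b ∈ B, h * b * h⁻¹ = y * b * y⁻¹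

/-- The data. -/
structure Cfg (p : ℕ) (H Z N B Y Q : Subgroup G) (Del A₀ : Set G) (z : G) : Prop where
  hQY : SylIn p Q Y
  hNn : N.Normal
  hNB : N ≤ B
  hBQ : B ≤ Q
  hBH : B ≤ H
  hBY : Y ≤ Subgroup.normalizer (B : Set G)
  hBB : ∀ u ∈ B, ∀ v ∈ B, ⁅u, v⁆ ∈ N
  hBp : ∀ u ∈ B, u ^ p ∈ N
  hNZ : N ≤ Z
  hZp : IsPGroup p Z
  hZc : IsMulCommutative Z
  hHZ : H ≤ Subgroup.normalizer (Z : Set G)
  hQZ : Q ≤ Subgroup.normalizer (Z : Set G)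
  hzB : z ∈ B
  hzZ : z ∈ Z
  hQz : ∀ q ∈ Q, ⁅q, z⁆ ∈ N
  hgen : ∀ X : Subgroup G, N ≤ X → (∀ y ∈ Y, y * z * y⁻¹ ∈ X) → B ≤ X
  hDY : Del ⊆ Y
  hDc : ∀ d ∈ Del, ∀ y ∈ Y, y * d * y⁻¹ ∈ Del
  hDp : ∀ d ∈ Del, ∃ k : ℕ, d ^ p ^ k = 1
  hDq : ∀ d ∈ Del, ∀ u ∈ B, ⁅d, ⁅d, u⁆⁆ ∈ N
  hA₀ : A₀ ⊆ Del ∩ Q
  hA₀C : ∃ a ∈ A₀, ∃ u ∈ B, ⁅a, u⁆ ∉ N
  hOp : ∀ P : Subgroup G, IsPGroup p P → P ≤ Y → Y ≤ Subgroup.normalizer (P : Set G) →
    ∀ d ∈ P, ∀ u ∈ B, ⁅d, u⁆ ∈ N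
  hR₁ : ∀ U : Subgroup G, U ≤ Q → B ≤ U → (∃ y ∈ Y, ∀ a ∈ A₀, y * a * y⁻¹ ∈ U) →
    ∀ n ∈ Y, n ∈ Subgroup.normalizer (U : Set G) → Realised H B n
  hR₂ : ∀ Y' : Subgroup G, Y' ≤ Y → Q ≤ Y' → Y' ≠ Y → ∀ y ∈ Y', Realised H B y

theorem comm_mul_left (g h v : G) : ⁅g * h, v⁆ = g * ⁅h, v⁆ * g⁻¹ * ⁅g, v⁆ := by
  simp only [commutatorElement_def]; group

theorem comm_mul_right (g u v : G) : ⁅g, u * v⁆ = ⁅g, u⁆ * (u * ⁅g, v⁆ * u⁻¹) := by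
  simp only [commutatorElement_def]; group

theorem comm_inv_left (g v : G) : ⁅g⁻¹, v⁆ = g⁻¹ * ⁅g, v⁆⁻¹ * g := by
  simp only [commutatorElement_def]; group

theorem comm_inv_right (g v : G) : ⁅g, v⁻¹⁆ = v⁻¹ * ⁅g, v⁆⁻¹ * v := by
  simp only [commutatorElement_def]; group

theorem comm_conj (y g v : G) : ⁅y * g * y⁻¹, y * v * y⁻¹⁆ = y * ⁅g, v⁆ * y⁻¹ := by
  simp only [commutatorElement_def]; group

theorem conj_eq_comm_mul (g v : G) : g * v * g⁻¹ = ⁅g, v⁆ * v := by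
  simp only [commutatorElement_def]; group

namespace Cfg

variable [Finite G] {p : ℕ} [hp : Fact p.Prime] {H Z N B Y Q : Subgroup G} {Del A₀ : Set G} {z : G}

/-- The elements centralised modulo `N` by the set inside the Sylow subgroup. -/
def Z₁ (hC : Cfg p H Z N B Y Q Del A₀ z) : Subgroup G where
  carrier := {v | v ∈ B ∧ v ∈ Z ∧ ∀ j ∈ Del, j ∈ Q → ⁅j, v⁆ ∈ N}
  one_mem' := ⟨one_mem _, one_mem _, fun j _ _ => by rw [commutatorElement_one_right]; exact one_mem _⟩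
  mul_mem' := fun {u v} hu hv => ⟨mul_mem hu.1 hv.1, mul_mem hu.2.1 hv.2.1, fun j hj hj' => by
    rw [comm_mul_right]
    exact mul_mem (hu.2.2 j hj hj') (hC.hNn.conj_mem _ (hv.2.2 j hj hj') u)⟩
  inv_mem' := fun {v} hv => ⟨inv_mem hv.1, inv_mem hv.2.1, fun j hj hj' => by
    rw [comm_inv_right]
    have := hC.hNn.conj_mem _ (inv_mem (hv.2.2 j hj hj')) v⁻¹
    rwa [inv_inv] at this⟩

/-- The stabiliser of that subgroup. -/
def Y₀ (hC : Cfg p H Z N B Y Q Del A₀ z) : Subgroup G := Y ⊓ Subgroup.normalizer (hC.Z₁ : Set G)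

variable (hC : Cfg p H Z N B Y Q Del A₀ z)
include hC

theorem N_le_Z₁ : N ≤ hC.Z₁ := fun v hv => ⟨hC.hNB hv, hC.hNZ hv, fun j _ _ => by
  rw [commutatorElement_def]
  exact mul_mem (hC.hNn.conj_mem _ hv j) (inv_mem hv)⟩

theorem z_mem_Z₁ : z ∈ hC.Z₁ := ⟨hC.hzB, hC.hzZ, fun j _ hj => hC.hQz j hj⟩

theorem Z₁_le : hC.Z₁ ≤ B := fun _ hv => hv.1

theorem Q_le_Y₀ : Q ≤ hC.Y₀ := by
  intro q hq
  refine Subgroup.mem_inf.2 ⟨hC.hQY.le hq, mem_normalizer_of_cj_le ?_⟩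
  rintro _ ⟨v, hv, rfl⟩
  refine ⟨(Subgroup.mem_normalizer_iff.1 (hC.hBY (hC.hQY.le hq)) v).1 hv.1,
    (Subgroup.mem_normalizer_iff.1 (hC.hQZ hq) v).1 hv.2.1, fun j hj hj' => ?_⟩
  have h1 : q⁻¹ * j * q⁻¹⁻¹ ∈ Del := hC.hDc j hj _ (inv_mem (hC.hQY.le hq))
  rw [inv_inv] at h1
  have h2 := hC.hNn.conj_mem _ (hv.2.2 _ h1 (mul_mem (mul_mem (inv_mem hq) hj') hq)) q
  rw [← comm_conj, show q * (q⁻¹ * j * q) * q⁻¹ = j by group] at h2
  exact h2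

/-- The set inside the Sylow subgroup has a normaliser inside `Y₀`. -/
theorem normalizer_le_Y₀ {y : G} (hy : y ∈ Y)
    (hyN : y ∈ Subgroup.normalizer (Subgroup.closure (Del ∩ Q) : Set G)) : y ∈ hC.Y₀ := by
  set J := Subgroup.closure (Del ∩ Q) with hJ
  have hJQ : J ≤ Q := (Subgroup.closure_le Q).2 Set.inter_subset_right
  have hQJ : Q ≤ Subgroup.normalizer (J : Set G) := by
    intro q hq
    refine mem_normalizer_of_cj_le ?_
    rw [cj_le_iff, hJ, Subgroup.closure_le]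
    rintro d ⟨hd, hdQ⟩
    refine mem_cj.2 (Subgroup.subset_closure ⟨?_, ?_⟩)
    · rw [inv_inv]
      exact hC.hDc d hd q (hC.hQY.le hq)
    · rw [inv_inv]
      exact mul_mem (mul_mem hq hdQ) (inv_mem hq)
  have hne : Y ⊓ Subgroup.normalizer (J : Set G) ≠ Y := fun h => by
    obtain ⟨a, ha, u, hu, hau⟩ := hC.hA₀C
    exact hau (hC.hOp J (hC.hQY.isPGroup.to_le hJQ) (hJQ.trans hC.hQY.le) (inf_eq_left.1 h) a
      (Subgroup.subset_closure (hC.hA₀ ha)) u hu)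
  obtain ⟨h, hh, hag⟩ := hC.hR₂ _ inf_le_left (le_inf hC.hQY.le hQJ) hne y ⟨hy, hyN⟩
  refine Subgroup.mem_inf.2 ⟨hy, mem_normalizer_of_cj_le ?_⟩
  rintro _ ⟨v, hv, rfl⟩
  refine ⟨(Subgroup.mem_normalizer_iff.1 (hC.hBY hy) v).1 hv.1, ?_, fun j hj hj' => ?_⟩
  · show y * v * y⁻¹ ∈ Z
    rw [← hag v hv.1]
    exact (Subgroup.mem_normalizer_iff.1 (hC.hHZ hh) v).1 hv.2.1
  · have h1 : y⁻¹ * j * y⁻¹⁻¹ ∈ Del := hC.hDc j hj _ (inv_mem hy)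
    have h2 : y⁻¹ * j * y⁻¹⁻¹ ∈ J :=
      (Subgroup.mem_normalizer_iff.1 (inv_mem hyN) j).1 (Subgroup.subset_closure ⟨hj, hj'⟩)
    have h3 := hC.hNn.conj_mem _ (hv.2.2 _ h1 (hJQ h2)) y
    rw [← comm_conj, show y * (y⁻¹ * j * y⁻¹⁻¹) * y⁻¹ = j by group] at h3
    exact h3

theorem Y₀_ne : hC.Y₀ ≠ Y := fun h => by
  have hB : B ≤ hC.Z₁ := hC.hgen _ hC.N_le_Z₁ fun y hy =>
    (Subgroup.mem_normalizer_iff.1 (Subgroup.mem_inf.1 (h.ge hy)).2 z).1 hC.z_mem_Z₁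
  obtain ⟨a, ha, u, hu, hau⟩ := hC.hA₀C
  exact hau ((hB hu).2.2 a (hC.hA₀ ha).1 (hC.hA₀ ha).2)

theorem realised_Y₀ {y : G} (hy : y ∈ hC.Y₀) : Realised H B y :=
  hC.hR₂ hC.Y₀ inf_le_left hC.Q_le_Y₀ hC.Y₀_ne y hy

omit [Finite G] hp in
theorem realised_mul {y y' : G} (hy' : y' ∈ Y) (h : Realised H B y) (h' : Realised H B y') :
    Realised H B (y * y') := by
  obtain ⟨g, hg, e⟩ := h
  obtain ⟨g', hg', e'⟩ := h'
  refine ⟨g * g', mul_mem hg hg', fun b hb => ?_⟩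
  have hb' : y' * b * y'⁻¹ ∈ B := (Subgroup.mem_normalizer_iff.1 (hC.hBY hy') b).1 hb
  calc g * g' * b * (g * g')⁻¹ = g * (g' * b * g'⁻¹) * g⁻¹ := by group
    _ = y * (y' * b * y'⁻¹) * y⁻¹ := by rw [e' b hb, e _ hb']
    _ = _ := by group

omit [Finite G] hp in
theorem realised_inv {y : G} (hy : y ∈ Y) (h : Realised H B y) : Realised H B y⁻¹ := by
  obtain ⟨g, hg, e⟩ := h
  refine ⟨g⁻¹, inv_mem hg, fun b hb => ?_⟩
  have hb' : y⁻¹ * b * y⁻¹⁻¹ ∈ B := (Subgroup.mem_normalizer_iff.1 (hC.hBY (inv_mem hy)) b).1 hb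
  have h1 := e _ hb'
  rw [show y * (y⁻¹ * b * y⁻¹⁻¹) * y⁻¹ = b by group] at h1
  calc g⁻¹ * b * g⁻¹⁻¹ = g⁻¹ * (g * (y⁻¹ * b * y⁻¹⁻¹) * g⁻¹) * g⁻¹⁻¹ := by rw [h1]
    _ = _ := by group

/-- A `p`-element of `Y₀` from the set fixes `Z₁` modulo `N`. -/
theorem good_fix {d : G} (hd : d ∈ Del) (hd0 : d ∈ hC.Y₀) {v : G} (hv : v ∈ hC.Z₁) : ⁅d, v⁆ ∈ N := by
  obtain ⟨k, hk⟩ := hC.hDp d hd
  have hP : IsPGroup p (Subgroup.zpowers d) := by
    obtain ⟨j, -, hj⟩ := (Nat.dvd_prime_pow hp.out).1 (orderOf_dvd_of_pow_eq_one hk)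
    exact IsPGroup.of_card (n := j) (by rw [Nat.card_zpowers, hj])
  obtain ⟨y, hy, hyQ⟩ := (hC.hQY.mono hC.Q_le_Y₀ inf_le_left).conj_le hP (Subgroup.zpowers_le.2 hd0)
  have hdQ : y * d * y⁻¹ ∈ Q := hyQ (conj_mem_cj (Subgroup.mem_zpowers d))
  have hvZ : y * v * y⁻¹ ∈ hC.Z₁ := (Subgroup.mem_normalizer_iff.1 hy.2 v).1 hv
  have h1 := hC.hNn.conj_mem _ (hvZ.2.2 _ (hC.hDc d hd y hy.1) hdQ) y⁻¹
  rw [← comm_conj, show y⁻¹ * (y * d * y⁻¹) * y⁻¹⁻¹ = d by group,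
    show y⁻¹ * (y * v * y⁻¹) * y⁻¹⁻¹ = v by group] at h1
  exact h1

/-- The elements fixing `Z₁` modulo `N`. -/
def fixer : Subgroup G where
  carrier := {l | ∀ v ∈ hC.Z₁, ⁅l, v⁆ ∈ N}
  one_mem' := fun v _ => by rw [commutatorElement_one_left]; exact one_mem _
  mul_mem' := fun {g h} hg hh v hv => by
    rw [comm_mul_left]
    exact mul_mem (hC.hNn.conj_mem _ (hh v hv) g) (hg v hv)
  inv_mem' := fun {g} hg v hv => by
    rw [comm_inv_left]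
    have := hC.hNn.conj_mem _ (inv_mem (hg v hv)) g⁻¹
    rwa [inv_inv] at this

theorem fixer_le {y : G} (hy : y ∈ Y) (h : y ∈ hC.fixer) : y ∈ hC.Y₀ := by
  refine Subgroup.mem_inf.2 ⟨hy, mem_normalizer_of_cj_le ?_⟩
  rintro _ ⟨v, hv, rfl⟩
  show y * v * y⁻¹ ∈ hC.Z₁
  rw [conj_eq_comm_mul]
  exact mul_mem (hC.N_le_Z₁ (h v hv)) hv

theorem exists_bad : ∃ d ∈ Del, d ∉ hC.Y₀ := by
  by_contra hcon
  push Not at hcon
  set K := Subgroup.closure Del with hK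
  have hKY : K ≤ hC.Y₀ := (Subgroup.closure_le _).2 hcon
  have hKn : Y ≤ Subgroup.normalizer (K : Set G) := fun y hy => by
    refine mem_normalizer_of_cj_le ?_
    rw [cj_le_iff, hK, Subgroup.closure_le]
    intro d hd
    refine mem_cj.2 (Subgroup.subset_closure ?_)
    rw [inv_inv]
    exact hC.hDc d hd y hy
  have hsyl : SylIn p (Q ⊓ K) K := hC.hQY.inf_normal ((Subgroup.closure_le _).2 hC.hDY) hKn
  refine hC.Y₀_ne (le_antisymm inf_le_left fun y hy => ?_)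
  obtain ⟨k, hk, hkn⟩ := frattini_conj hsyl hKn hy
  have hkY : k ∈ Y := (Subgroup.closure_le _).2 hC.hDY hk
  have hN : k * y ∈ Subgroup.normalizer (Subgroup.closure (Del ∩ Q) : Set G) := by
    refine mem_normalizer_of_cj_le ?_
    rw [cj_le_iff, Subgroup.closure_le]
    rintro d ⟨hd, hdQ⟩
    refine mem_cj.2 (Subgroup.subset_closure ⟨?_, ?_⟩)
    · rw [inv_inv]
      exact hC.hDc d hd _ (mul_mem hkY hy)
    · rw [inv_inv]
      exact ((Subgroup.mem_normalizer_iff.1 hkn d).1 ⟨hdQ, Subgroup.subset_closure hd⟩).1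
  have := mul_mem (inv_mem (hKY hk)) (hC.normalizer_le_Y₀ (mul_mem hkY hy) hN)
  rwa [inv_mul_cancel_left] at this

/-- A maximal good configuration: the subgroup `V`, normalised by a good element outside and by a bad element. -/
theorem exists_maximal : ∃ V : Subgroup G, IsPGroup p V ∧ V ≤ Y ∧ V = Subgroup.closure (Del ∩ (V ⊓ hC.Y₀ : Subgroup G)) ∧
    (∀ R : Subgroup G, IsPGroup p R → R ≤ Y → V ≤ R → (∃ d ∈ Del, d ∈ R ∧ d ∉ hC.Y₀) →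
      ∀ d ∈ Del, d ∈ R → d ∈ hC.Y₀ → d ∈ V) ∧
    (∃ a ∈ Del, a ∈ hC.Y₀ ∧ a ∈ Subgroup.normalizer (V : Set G) ∧ a ∉ V) ∧
    ∃ x ∈ Del, x ∉ hC.Y₀ ∧ x ∈ Subgroup.normalizer (V : Set G) := by
  classical
  obtain ⟨d₀, hd₀, hd₀'⟩ := hC.exists_bad
  have hd₀p : IsPGroup p (Subgroup.zpowers d₀) := by
    obtain ⟨k, hk⟩ := hC.hDp d₀ hd₀
    obtain ⟨j, -, hj⟩ := (Nat.dvd_prime_pow hp.out).1 (orderOf_dvd_of_pow_eq_one hk)
    exact IsPGroup.of_card (n := j) (by rw [Nat.card_zpowers, hj])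
  obtain ⟨P, ⟨hPY, hPp, x₀, hx₀, hx₀P, hx₀'⟩, hPmax⟩ := Set.exists_max_image
    {P : Subgroup G | P ≤ Y ∧ IsPGroup p P ∧ ∃ d ∈ Del, d ∈ P ∧ d ∉ hC.Y₀}
    (fun P => (Del ∩ (P ⊓ hC.Y₀ : Subgroup G)).ncard) (Set.toFinite _)
    ⟨Subgroup.zpowers d₀, Subgroup.zpowers_le.2 (hC.hDY hd₀), hd₀p, d₀, hd₀, Subgroup.mem_zpowers _, hd₀'⟩
  set V := Subgroup.closure (Del ∩ (P ⊓ hC.Y₀ : Subgroup G)) with hV
  have hVP : V ≤ P ⊓ hC.Y₀ := (Subgroup.closure_le _).2 Set.inter_subset_right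
  have hVp : IsPGroup p V := hPp.to_le (hVP.trans inf_le_left)
  have hset : Del ∩ (V ⊓ hC.Y₀ : Subgroup G) = Del ∩ (P ⊓ hC.Y₀ : Subgroup G) := by
    refine Set.Subset.antisymm (fun d hd => ⟨hd.1, hVP hd.2.1⟩) fun d hd => ⟨hd.1, ?_, hd.2.2⟩
    exact Subgroup.subset_closure hd
  have hmax : ∀ R : Subgroup G, IsPGroup p R → R ≤ Y → V ≤ R → (∃ d ∈ Del, d ∈ R ∧ d ∉ hC.Y₀) →
      ∀ d ∈ Del, d ∈ R → d ∈ hC.Y₀ → d ∈ V := by
    intro R hRp hRY hVR hbad d hd hdR hd0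
    have hsub : Del ∩ (P ⊓ hC.Y₀ : Subgroup G) ⊆ Del ∩ (R ⊓ hC.Y₀ : Subgroup G) := fun e he =>
      ⟨he.1, hVR (Subgroup.subset_closure he), he.2.2⟩
    have heq := Set.eq_of_subset_of_ncard_le hsub (hPmax R ⟨hRY, hRp, hbad⟩) (Set.toFinite _)
    exact Subgroup.subset_closure (heq.symm ▸ ⟨hd, hdR, hd0⟩ : d ∈ Del ∩ (P ⊓ hC.Y₀ : Subgroup G))
  -- a bad element normalising `V`
  have hx : ∃ x ∈ Del, x ∉ hC.Y₀ ∧ x ∈ Subgroup.normalizer (V : Set G) := by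
    by_contra hcon
    push Not at hcon
    set R := P ⊓ Subgroup.normalizer (V : Set G)
    have hVR : V ≤ R := le_inf (hVP.trans inf_le_left) Subgroup.le_normalizer
    have hgood : ∀ d ∈ Del, d ∈ R → d ∈ hC.Y₀ := fun d hd hdR => by_contra fun h => hcon d hd h hdR.2
    have hRP : R = P := by
      by_contra hne
      have h1 := SylIn.normalizer_growth (p := p) (inf_le_left : R ≤ P) hne hPp
      refine h1.not_ge fun g hg => Subgroup.mem_inf.2 ⟨hg.1, mem_normalizer_of_cj_le ?_⟩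
      rw [cj_le_iff]
      nth_rewrite 1 [hV]
      rw [Subgroup.closure_le]
      intro d hd
      refine mem_cj.2 ?_
      rw [inv_inv]
      have hdR : g * d * g⁻¹ ∈ R := (Subgroup.mem_normalizer_iff.1 hg.2 d).1 (hVR (Subgroup.subset_closure hd))
      exact Subgroup.subset_closure ⟨hC.hDc d hd.1 g (hPY hg.1), hdR.1, hgood _ (hC.hDc d hd.1 g (hPY hg.1)) hdR⟩
    exact hx₀' (hgood x₀ hx₀ (hRP.symm ▸ hx₀P))
  obtain ⟨x, hxD, hx', hxV⟩ := hx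
  refine ⟨V, hVp, hVP.trans (inf_le_left.trans hPY), by rw [hset], hmax, ?_, x, hxD, hx', hxV⟩
  obtain ⟨g, hg, hgQ⟩ := (hC.hQY.mono hC.Q_le_Y₀ inf_le_left).conj_le hVp (hVP.trans inf_le_right)
  set Q₀ := cj Q g⁻¹
  have hVQ₀ : V ≤ Q₀ := by rw [← cj_le_iff]; exact hgQ
  have hQ₀Y : Q₀ ≤ hC.Y₀ := by
    rintro _ ⟨q, hq, rfl⟩
    exact mul_mem (mul_mem (inv_mem hg) (hC.Q_le_Y₀ hq)) (inv_mem (inv_mem hg))
  by_contra hcon
  push Not at hcon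
  set R := Q₀ ⊓ Subgroup.normalizer (V : Set G)
  have hVR : V ≤ R := le_inf hVQ₀ Subgroup.le_normalizer
  have hin : ∀ d ∈ Del, d ∈ R → d ∈ V := fun d hd hdR => hcon d hd (hQ₀Y hdR.1) hdR.2
  have hRQ : R = Q₀ := by
    by_contra hne
    have h1 := SylIn.normalizer_growth (p := p) (inf_le_left : R ≤ Q₀) hne (isPGroup_cj hC.hQY.isPGroup g⁻¹)
    refine h1.not_ge fun y hy => Subgroup.mem_inf.2 ⟨hy.1, mem_normalizer_of_cj_le ?_⟩
    rw [cj_le_iff]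
    nth_rewrite 1 [hV]
    rw [Subgroup.closure_le]
    intro d hd
    refine mem_cj.2 ?_
    rw [inv_inv]
    exact hin _ (hC.hDc d hd.1 y (hQ₀Y hy.1).1)
      ((Subgroup.mem_normalizer_iff.1 hy.2 d).1 (hVR (Subgroup.subset_closure hd)))
  have hVJ : cj V g = Subgroup.closure (Del ∩ Q) := by
    refine le_antisymm ?_ ((Subgroup.closure_le _).2 fun d hd => ?_)
    · rw [cj_le_iff]
      nth_rewrite 1 [hV]
      rw [Subgroup.closure_le]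
      intro d hd
      refine mem_cj.2 (Subgroup.subset_closure ⟨?_, ?_⟩)
      · rw [inv_inv]; exact hC.hDc d hd.1 g hg.1
      · rw [inv_inv]; exact hgQ (conj_mem_cj (Subgroup.subset_closure hd))
    · have hd' : g⁻¹ * d * g⁻¹⁻¹ ∈ R := hRQ.symm ▸ conj_mem_cj hd.2
      have h2 := hin _ (hC.hDc d hd.1 _ (inv_mem hg.1)) hd'
      rw [inv_inv] at h2
      exact mem_cj.2 h2
  have hxY : g * x * g⁻¹ ∈ hC.Y₀ := hC.normalizer_le_Y₀ (mul_mem (mul_mem hg.1 (hC.hDY hxD)) (inv_mem hg.1))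
    (by rw [← hVJ, ← cj_normalizer]; exact conj_mem_cj hxV)
  refine hx' ?_
  have := mul_mem (mul_mem (inv_mem hg) hxY) hg
  rwa [show g⁻¹ * (g * x * g⁻¹) * g = x by group] at this

/-- Normalisers of the good subgroups above `V` are realised. -/
theorem realised_normalizer {V : Subgroup G}
    (hmax : ∀ R : Subgroup G, IsPGroup p R → R ≤ Y → V ≤ R → (∃ d ∈ Del, d ∈ R ∧ d ∉ hC.Y₀) →
      ∀ d ∈ Del, d ∈ R → d ∈ hC.Y₀ → d ∈ V)
    {P : Subgroup G} (hPp : IsPGroup p P) (hPY : P ≤ Y) (hVP : V ≤ P)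
    (hPgen : P ≤ Subgroup.closure (Del ∩ P)) (hgood : ∀ d ∈ Del, d ∈ P → d ∈ hC.Y₀)
    (hout : ∃ d ∈ Del, d ∈ P ∧ d ∉ V) {n : G} (hn : n ∈ Y) (hnP : n ∈ Subgroup.normalizer (P : Set G)) :
    Realised H B n := by
  suffices h : ∀ (k : ℕ) (P : Subgroup G), Nat.card G ≤ Nat.card P + k → IsPGroup p P → P ≤ Y → V ≤ P →
      P ≤ Subgroup.closure (Del ∩ P) → (∀ d ∈ Del, d ∈ P → d ∈ hC.Y₀) → (∃ d ∈ Del, d ∈ P ∧ d ∉ V) →
      ∀ n ∈ Y, n ∈ Subgroup.normalizer (P : Set G) → Realised H B n from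
    h (Nat.card G) P (Nat.le_add_left _ _) hPp hPY hVP hPgen hgood hout n hn hnP
  intro k
  induction k using Nat.strong_induction_on with
  | _ k IH =>
  intro P hk hPp hPY hVP hPgen hgood hout n hn hnP
  obtain ⟨a, haD, haP, haV⟩ := hout
  have hPY₀ : P ≤ hC.Y₀ := hPgen.trans ((Subgroup.closure_le _).2 fun d hd => hgood d hd.1 hd.2)
  obtain ⟨g, hg, hgQ⟩ := (hC.hQY.mono hC.Q_le_Y₀ inf_le_left).conj_le hPp hPY₀
  set Q₀ := cj Q g⁻¹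
  have hPQ₀ : P ≤ Q₀ := by rw [← cj_le_iff]; exact hgQ
  set T := Y ⊓ Subgroup.normalizer (P : Set G)
  have hPT : P ≤ T := le_inf hPY Subgroup.le_normalizer
  have hTgood : ∀ d ∈ Del, d ∈ T → d ∈ hC.Y₀ := by
    intro d hd hdT
    by_contra hbad
    have hdp : IsPGroup p (Subgroup.zpowers d) := by
      obtain ⟨j, hj⟩ := hC.hDp d hd
      obtain ⟨i, -, hi⟩ := (Nat.dvd_prime_pow hp.out).1 (orderOf_dvd_of_pow_eq_one hj)
      exact IsPGroup.of_card (n := i) (by rw [Nat.card_zpowers, hi])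
    have hR : IsPGroup p ↥(Subgroup.zpowers d ⊔ P) :=
      hdp.to_sup_of_normal_right' hPp (Subgroup.zpowers_le.2 hdT.2)
    exact haV (hmax _ hR (sup_le (Subgroup.zpowers_le.2 (hC.hDY hd)) hPY) (hVP.trans le_sup_right)
      ⟨d, hd, Subgroup.mem_sup_left (Subgroup.mem_zpowers d), hbad⟩ a haD (Subgroup.mem_sup_right haP)
      (hgood a haD haP))
  set R := Q₀ ⊓ Subgroup.normalizer (P : Set G)
  by_cases hgrow : ∀ d ∈ Del, d ∈ R → d ∈ P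
  · -- `P` contains a conjugate of the distinguished set
    have hRQ : R = Q₀ := by
      by_contra hne
      have hQY₀ : Q₀ ≤ hC.Y₀ := by
        rintro _ ⟨q, hq, rfl⟩
        exact mul_mem (mul_mem (inv_mem hg) (hC.Q_le_Y₀ hq)) (inv_mem (inv_mem hg))
      have h1 := SylIn.normalizer_growth (p := p) (inf_le_left : R ≤ Q₀) hne (isPGroup_cj hC.hQY.isPGroup g⁻¹)
      refine h1.not_ge fun y hy => Subgroup.mem_inf.2 ⟨hy.1, mem_normalizer_of_cj_le ?_⟩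
      rw [cj_le_iff]
      refine hPgen.trans ((Subgroup.closure_le _).2 fun d hd => ?_)
      refine mem_cj.2 ?_
      rw [inv_inv]
      exact hgrow _ (hC.hDc d hd.1 y (hQY₀ hy.1).1)
        ((Subgroup.mem_normalizer_iff.1 hy.2 d).1 ⟨hPQ₀ hd.2, Subgroup.le_normalizer hd.2⟩)
    set U := cj P g ⊔ B
    have hA : ∀ a ∈ A₀, a ∈ U := by
      intro a ha
      have h1 : g⁻¹ * a * g⁻¹⁻¹ ∈ R := hRQ.symm ▸ conj_mem_cj (hC.hA₀ ha).2
      have h2 := hgrow _ (hC.hDc a (hC.hA₀ ha).1 _ (inv_mem hg.1)) h1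
      rw [inv_inv] at h2
      exact Subgroup.mem_sup_left (mem_cj.2 h2)
    have hN : g * n * g⁻¹ ∈ Subgroup.normalizer (U : Set G) := by
      refine mem_normalizer_of_cj_le ?_
      rw [cj_sup]
      refine sup_le_sup (le_of_eq ?_) ?_
      · rw [cj_cj, show g * n * g⁻¹ * g = g * n by group, ← cj_cj, cj_eq_self hnP]
      · exact (cj_eq_self (hC.hBY (mul_mem (mul_mem hg.1 hn) (inv_mem hg.1)))).le
    have hY : g * n * g⁻¹ ∈ Y := mul_mem (mul_mem hg.1 hn) (inv_mem hg.1)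
    have h1 := hC.hR₁ U (sup_le hgQ hC.hBQ) le_sup_right
      ⟨1, one_mem _, fun a ha => by simpa using hA a ha⟩ _ hY hN
    have hgY : g⁻¹ * (g * n * g⁻¹) * g = n := by group
    rw [← hgY]
    exact hC.realised_mul hg.1 (hC.realised_mul hY (hC.realised_inv hg.1 (hC.realised_Y₀ hg)) h1)
      (hC.realised_Y₀ hg)
  · push Not at hgrow
    obtain ⟨d₁, hd₁, hd₁R, hd₁P⟩ := hgrow
    set K := Subgroup.closure (Del ∩ T)
    have hKY₀ : K ≤ hC.Y₀ := (Subgroup.closure_le _).2 fun d hd => hTgood d hd.1 hd.2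
    have hKT : K ≤ T := (Subgroup.closure_le _).2 Set.inter_subset_right
    have hTK : T ≤ Subgroup.normalizer (K : Set G) := fun y hy => by
      refine mem_normalizer_of_cj_le ?_
      rw [cj_le_iff, Subgroup.closure_le]
      intro d hd
      refine mem_cj.2 (Subgroup.subset_closure ⟨?_, ?_⟩)
      · rw [inv_inv]; exact hC.hDc d hd.1 y hy.1
      · rw [inv_inv]; exact mul_mem (mul_mem hy hd.2) (inv_mem hy)
    set E := Subgroup.closure (Del ∩ R)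
    have hRY : R ≤ T := inf_le_inf_right _ ((cj_mono hC.hQY.le _).trans (cj_eq_self_of_mem (inv_mem hg.1)).le)
    have hEK : E ≤ K := Subgroup.closure_mono fun d hd => ⟨hd.1, hRY hd.2⟩
    have hPK : P ≤ K := hPgen.trans (Subgroup.closure_mono fun d hd => ⟨hd.1, hPT hd.2⟩)
    have hE : IsPGroup p E :=
      ((isPGroup_cj hC.hQY.isPGroup g⁻¹).to_le (inf_le_left : R ≤ Q₀)).to_le ((Subgroup.closure_le _).2 Set.inter_subset_right)
    obtain ⟨Q₂, hQ₂, hEQ₂⟩ := exists_sylIn_ge hE hEK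
    obtain ⟨k', hk', hk'n⟩ := frattini_conj hQ₂ hTK (h := n) ⟨hn, hnP⟩
    set P₂ := Subgroup.closure (Del ∩ Q₂)
    have hP₂Q : P₂ ≤ Q₂ := (Subgroup.closure_le _).2 Set.inter_subset_right
    have hPE : P ≤ E := hPgen.trans (Subgroup.closure_mono fun d hd =>
      ⟨hd.1, hPQ₀ hd.2, Subgroup.le_normalizer hd.2⟩)
    have hEP₂ : E ≤ P₂ := (Subgroup.closure_le _).2 fun d hd =>
      Subgroup.subset_closure ⟨hd.1, hEQ₂ (Subgroup.subset_closure hd)⟩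
    have hlt : P < P₂ := lt_of_le_of_ne (hPE.trans hEP₂) fun h => hd₁P
      (h.ge (hEP₂ (Subgroup.subset_closure ⟨hd₁, hd₁R⟩)))
    have hcard : Nat.card P < Nat.card P₂ := by
      by_contra hle
      exact hlt.ne (Subgroup.eq_of_le_of_card_ge hlt.le (by omega))
    have hcardG := Subgroup.card_le_card_group (H := P₂)
    have hP₂Y : P₂ ≤ Y := hP₂Q.trans (hQ₂.le.trans (hKT.trans inf_le_left))
    have hkn : k' * n ∈ Subgroup.normalizer (P₂ : Set G) := by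
      refine mem_normalizer_of_cj_le ?_
      rw [cj_le_iff, Subgroup.closure_le]
      intro d hd
      refine mem_cj.2 (Subgroup.subset_closure ⟨?_, ?_⟩)
      · rw [inv_inv]; exact hC.hDc d hd.1 _ (mul_mem (hKT hk').1 hn)
      · rw [inv_inv]; exact (Subgroup.mem_normalizer_iff.1 hk'n d).1 hd.2
    have hR := IH (k - 1) (by omega) P₂ (by omega) (hQ₂.isPGroup.to_le hP₂Q) hP₂Y (hVP.trans hlt.le)
      (Subgroup.closure_mono fun d hd => ⟨hd.1, Subgroup.subset_closure hd⟩)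
      (fun d hd hdP => hKY₀ (hQ₂.le (hP₂Q hdP))) ⟨a, haD, hlt.le haP, haV⟩ (k' * n) (mul_mem (hKT hk').1 hn) hkn
    have := hC.realised_mul (mul_mem (hKT hk').1 hn)
      (hC.realised_inv (hKT hk').1 (hC.realised_Y₀ (hKY₀ hk'))) hR
    rwa [inv_mul_cancel_left] at this

end Cfg

end Cfsg.Agent.Solv.ZJFail
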