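import Cfsg.Agent.Lib.Solv.ZJFail.Borel

/-!
# A subgroup of order `p` on which a normaliser induces all automorphisms
-/

set_option autoImplicit false
set_option linter.style.haveILetI false

namespace Cfsg.Agent.Solv.ZJFail

variable {G : Type*} [Group G] [Finite G] {p : ℕ} [hp : Fact p.Prime]

theorem exists_eigen_subgroup (hp2 : p ≠ 2) (H Z N' : Subgroup G) (hZp : IsPGroup p Z) (hZc : IsMulCommutative Z)
    (hHZ : H ≤ Subgroup.normalizer (Z : Set G)) (hN'Z : N' ≤ Z) {h η : G} (hh : h ∈ H) (hη : η ∈ Z)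
    (hhN : h ∈ Subgroup.normalizer (N' : Set G)) (hne : η ∉ N') (hηp : η ^ p ∈ N') (c : ℕ)
    (hc : ∀ u : ZMod p, u ≠ 0 → ∃ i : ℕ, (c : ZMod p) ^ i = u) (heq : (η ^ c)⁻¹ * (h * η * h⁻¹) ∈ N') :
    ∃ C : Subgroup G, C ≤ Z ∧ Nat.card C = p ∧
      (H ⊓ Subgroup.centralizer (C : Set G)).relIndex (H ⊓ Subgroup.normalizer (C : Set G)) = p - 1 := by
  classical
  have hpp := hp.out
  letI : CommGroup Z := { (inferInstance : Group Z) with mul_comm := hZc.1.1 }
  obtain ⟨e, he⟩ := exists_pPrime_pow (p := p) h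
  set h' := h ^ p ^ e with hh'
  have conjZ : ∀ g ∈ H, ∀ v : Z, g * v * g⁻¹ ∈ Z := fun g hg v =>
    (Subgroup.mem_normalizer_iff.1 (hHZ hg) v).1 v.2
  let mkθ : ∀ g ∈ H, Z →* Z := fun g hg =>
    { toFun := fun v => ⟨g * v * g⁻¹, conjZ g hg v⟩
      map_one' := Subtype.ext (by simp)
      map_mul' := fun u v => Subtype.ext (by simp [mul_assoc]) }
  set θ := mkθ h' (pow_mem hh _)
  set q := QuotientGroup.mk' (N'.subgroupOf Z)
  set y : Z := ⟨η, hη⟩
  have hqp : q y ^ p = 1 := by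
    rw [← map_pow, QuotientGroup.mk'_apply, QuotientGroup.eq_one_iff, Subgroup.mem_subgroupOf]
    exact hηp
  have hq1 : q y ≠ 1 := fun h0 => hne (Subgroup.mem_subgroupOf.1 ((QuotientGroup.eq_one_iff y).1 h0))
  have hqo : orderOf (q y) = p := orderOf_eq_prime hqp hq1
  have hcongr : ∀ a b : ℕ, (a : ZMod p) = b → q y ^ a = q y ^ b := fun a b hab => by
    rw [pow_eq_pow_iff_modEq, hqo]
    exact (ZMod.natCast_eq_natCast_iff _ _ _).1 hab
  have hstep : ∀ (g : G) (hg : g ∈ H), g ∈ Subgroup.normalizer (N' : Set G) → ∀ u v : Z, q u = q v →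
      q (mkθ g hg u) = q (mkθ g hg v) := by
    intro g hg hgN u v huv
    rw [QuotientGroup.mk'_eq_mk'] at huv ⊢
    obtain ⟨w, hw, rfl⟩ := huv
    refine ⟨mkθ g hg w, ?_, (map_mul _ _ _).symm⟩
    rw [Subgroup.mem_subgroupOf] at hw ⊢
    exact (Subgroup.mem_normalizer_iff.1 hgN _).1 hw
  -- the eigenvalue of the prime-to-`p` part
  have hone : q (mkθ h hh y) = q y ^ c := by
    rw [← map_pow, eq_comm, QuotientGroup.mk'_eq_mk']
    refine ⟨(y ^ c)⁻¹ * mkθ h hh y, ?_, mul_inv_cancel_left _ _⟩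
    rw [Subgroup.mem_subgroupOf]
    exact heq
  have hpowh : ∀ j : ℕ, ∀ (hj : h ^ j ∈ H), q (mkθ (h ^ j) hj y) = q y ^ c ^ j := by
    intro j
    induction j with
    | zero =>
      intro hj
      rw [pow_zero c, pow_one]
      exact congrArg q (Subtype.ext (by simp [mkθ]))
    | succ j ih =>
      intro hj
      have e1 : mkθ (h ^ (j + 1)) hj y = mkθ h hh (mkθ (h ^ j) (pow_mem hh j) y) :=
        Subtype.ext (by
          show h ^ (j + 1) * (y : G) * (h ^ (j + 1))⁻¹ = h * (h ^ j * (y : G) * (h ^ j)⁻¹) * h⁻¹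
          rw [pow_succ']; group)
      have e2 := hstep h hh hhN _ (y ^ c ^ j) ((ih (pow_mem hh j)).trans (map_pow q y _).symm)
      rw [e1, e2, map_pow, map_pow, hone, ← pow_mul, ← pow_succ']
  have hθy : q (θ y) = q y ^ c := (hpowh (p ^ e) (pow_mem hh _)).trans
    (hcongr _ _ (by rw [Nat.cast_pow, ZMod.pow_card_pow]))
  -- the multiplier
  obtain ⟨E, hE⟩ := IsPGroup.iff_card.1 hZp
  have hE0 : E ≠ 0 := fun h0 => hne (by
    rw [h0, pow_zero, Subgroup.card_eq_one] at hE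
    rw [hE, Subgroup.mem_bot] at hη
    rw [hη]
    exact one_mem _)
  set d := c ^ p ^ E with hd
  have hdc : (d : ZMod p) = c := by rw [hd, Nat.cast_pow, ZMod.pow_card_pow]
  have hc0 : (c : ZMod p) ≠ 0 := fun h0 => by
    haveI : Fact (2 < p) := ⟨lt_of_le_of_ne hpp.two_le (Ne.symm hp2)⟩
    obtain ⟨i, hi⟩ := hc (-1) (neg_ne_zero.2 one_ne_zero)
    rw [h0] at hi
    rcases Nat.eq_zero_or_pos i with rfl | h1
    · rw [pow_zero] at hi
      exact ZMod.neg_one_ne_one hi.symm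
    · rw [zero_pow h1.ne'] at hi
      exact one_ne_zero (neg_eq_zero.1 hi.symm)
  set n := orderOf h' * (p - 1) with hn
  have hnp : (n : ZMod p) ≠ 0 := by
    rw [Ne, ZMod.natCast_eq_zero_iff, hn, hpp.dvd_mul]
    rintro (h0 | h0)
    · exact (hpp.coprime_iff_not_dvd.1 he.symm) h0
    · have := hpp.two_le
      have := Nat.le_of_dvd (by omega) h0
      omega
  have hdn : ∀ v : Z, v ^ d ^ n = v := by
    intro v
    have hcop : c.Coprime (p ^ E) :=
      Nat.Coprime.pow_right _ ((hpp.coprime_iff_not_dvd.2 fun h0 => hc0 ((ZMod.natCast_eq_zero_iff _ _).2 h0)).symm)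
    have h1 := Nat.ModEq.pow_totient hcop
    rw [Nat.totient_prime_pow hpp (Nat.pos_of_ne_zero hE0)] at h1
    have h2 : d ^ n ≡ 1 [MOD p ^ E] := by
      rw [hd, ← pow_mul]
      have e1 : p ^ E * n = p ^ (E - 1) * (p - 1) * (p * orderOf h') := by
        rw [hn]
        conv_lhs => rw [show E = E - 1 + 1 by omega, pow_succ]
        ring
      rw [e1, pow_mul]
      simpa using h1.pow _
    conv_rhs => rw [← pow_one v]
    rw [pow_eq_pow_iff_modEq]
    exact h2.of_dvd (hE ▸ orderOf_dvd_natCard v)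
  have hθn : θ^[n] y = y := by
    have hit : ∀ k : ℕ, ((θ^[k] y : Z) : G) = h' ^ k * η * (h' ^ k)⁻¹ := fun k => by
      induction k with
      | zero => simp [y]
      | succ k ih =>
        rw [Function.iterate_succ_apply']
        show h' * ((θ^[k] y : Z) : G) * h'⁻¹ = _
        rw [ih, pow_succ']; group
    exact Subtype.ext (by rw [hit, hn, pow_mul, pow_orderOf_eq_one]; simp [y])
  let F : ℕ → Z := fun k => Nat.rec 1 (fun k v => θ v * y ^ d ^ k) k
  have hF : ∀ k, F (k + 1) = θ^[k] y * F k ^ d := by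
    intro k
    induction k with
    | zero => simp [F]
    | succ k ih =>
      show θ (F (k + 1)) * y ^ d ^ (k + 1) = _
      conv_lhs => rw [ih, map_mul, map_pow, ← Function.iterate_succ_apply' θ k y, pow_succ d k, pow_mul,
        mul_assoc, ← mul_pow]
  have hfix : θ (F n) = F n ^ d := by
    have h1 : θ (F n) * y ^ d ^ n = θ^[n] y * F n ^ d := hF n
    rw [hθn, hdn, mul_comm y] at h1
    exact mul_right_cancel h1
  have hqF : ∀ k, q (F (k + 1)) = q y ^ ((k + 1) * c ^ k) := by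
    intro k
    induction k with
    | zero => simp [F]
    | succ k ih =>
      show q (θ (F (k + 1)) * y ^ d ^ (k + 1)) = _
      have e2 := hstep h' (pow_mem hh _) (pow_mem hhN _) _ (y ^ ((k + 1) * c ^ k))
        (ih.trans (map_pow q y _).symm)
      rw [map_mul, e2, map_pow, map_pow, map_pow]
      show q (θ y) ^ _ * _ = _
      rw [hθy, ← pow_mul, ← pow_add]
      refine hcongr _ _ ?_
      push_cast [hdc]
      ring
  obtain ⟨n', hn'⟩ : ∃ n', n = n' + 1 := ⟨n - 1, by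
    have : n ≠ 0 := fun h0 => hnp (by rw [h0, Nat.cast_zero])
    omega⟩
  set v₁ := F n with hv₁
  have hv₁1 : v₁ ≠ 1 := fun h0 => by
    have h1 := hqF n'
    rw [← hn', ← hv₁, h0, map_one, eq_comm, ← orderOf_dvd_iff_pow_eq_one, hqo, ← ZMod.natCast_eq_zero_iff] at h1
    push_cast at h1
    exact (mul_ne_zero hnp (pow_ne_zero _ hc0)) h1
  obtain ⟨k, hk⟩ : ∃ k, orderOf v₁ = p ^ (k + 1) := by
    obtain ⟨i, hi⟩ := IsPGroup.iff_orderOf.1 hZp v₁
    rcases i with _ | i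
    · exact absurd (orderOf_eq_one_iff.1 (by simpa using hi)) hv₁1
    · exact ⟨i, hi⟩
  set w := v₁ ^ p ^ k
  have hwo : orderOf w = p := by
    rw [orderOf_pow' _ (pow_ne_zero _ hpp.pos.ne'), hk,
      Nat.gcd_eq_right (pow_dvd_pow p (Nat.le_succ k)), pow_succ, Nat.mul_div_cancel_left _ (Nat.pow_pos hpp.pos)]
  have hwG : orderOf (w : G) = p := by rw [Subgroup.orderOf_coe, hwo]
  have hθw : h' * (w : G) * h'⁻¹ = (w : G) ^ c := by
    have h1 : θ w = w ^ c := by
      rw [map_pow, hfix, ← pow_mul, mul_comm, pow_mul, pow_eq_pow_iff_modEq, hwo]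
      exact (ZMod.natCast_eq_natCast_iff _ _ _).1 hdc
    exact congrArg Subtype.val h1
  -- the automiser
  set C := Subgroup.zpowers (w : G)
  have hwC : (w : G) ∈ C := Subgroup.mem_zpowers _
  have hCZ : C ≤ Z := Subgroup.zpowers_le.2 w.2
  set NC := H ⊓ Subgroup.normalizer (C : Set G)
  have hpow : ∀ g : NC, ∃ u : ZMod p, (g : G) * w * (g : G)⁻¹ = (w : G) ^ u.val := by
    intro g
    have h1 : (g : G) * w * (g : G)⁻¹ ∈ C := (Subgroup.mem_normalizer_iff.1 g.2.2 _).1 hwC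
    obtain ⟨i, hi⟩ := (mem_powers_iff_mem_zpowers.2 h1)
    refine ⟨(i : ZMod p), ?_⟩
    rw [← hi, pow_eq_pow_iff_modEq, hwG]
    exact (ZMod.natCast_eq_natCast_iff _ _ _).1 (by rw [ZMod.natCast_zmod_val])
  choose χ₀ hχ₀ using hpow
  have huniq : ∀ (g : NC) (i : ℕ), (g : G) * w * (g : G)⁻¹ = (w : G) ^ i → χ₀ g = i := fun g i hi => by
    rw [hχ₀, pow_eq_pow_iff_modEq, hwG, ← ZMod.natCast_eq_natCast_iff, ZMod.natCast_zmod_val] at hi
    exact hi
  let χ : NC →* ZMod p :=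
    { toFun := χ₀
      map_one' := by rw [huniq 1 1 (by simp), Nat.cast_one]
      map_mul' := fun a b => by
        rw [huniq (a * b) ((χ₀ a).val * (χ₀ b).val) ?_, Nat.cast_mul, ZMod.natCast_zmod_val, ZMod.natCast_zmod_val]
        rw [show ((a * b : NC) : G) * w * ((a * b : NC) : G)⁻¹ = (a : G) * ((b : G) * w * (b : G)⁻¹) * (a : G)⁻¹ by
          simp [mul_assoc], hχ₀ b, ← conj_pow, hχ₀ a, ← pow_mul] }
  have hsurj : Function.Surjective χ.toHomUnits := by
    intro u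
    obtain ⟨i, hi⟩ := hc u u.ne_zero
    have hmem : h' ∈ NC := by
      refine Subgroup.mem_inf.2 ⟨pow_mem hh _, ?_⟩
      refine Cfsg.Agent.Fusion.mem_normalizer_of_cj_le ?_
      rintro _ ⟨v, hv, rfl⟩
      obtain ⟨j, rfl⟩ := Subgroup.mem_zpowers_iff.1 hv
      show h' * (w : G) ^ j * h'⁻¹ ∈ C
      rw [← conj_zpow, hθw]
      exact zpow_mem (pow_mem hwC _) _
    refine ⟨⟨h', hmem⟩ ^ i, Units.ext ?_⟩
    rw [MonoidHom.coe_toHomUnits, map_pow]
    show χ₀ ⟨h', hmem⟩ ^ i = u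
    rw [huniq ⟨h', hmem⟩ c hθw, hi]
  have hker : χ.toHomUnits.ker = (H ⊓ Subgroup.centralizer (C : Set G)).subgroupOf NC := by
    ext g
    rw [MonoidHom.mem_ker, Subgroup.mem_subgroupOf, Subgroup.mem_inf, ← Units.val_inj, MonoidHom.coe_toHomUnits,
      Units.val_one]
    change χ₀ g = 1 ↔ _
    refine ⟨fun h1 => ⟨g.2.1, Subgroup.mem_centralizer_iff.2 fun v hv => ?_⟩, fun h1 => ?_⟩
    · obtain ⟨j, rfl⟩ := Subgroup.mem_zpowers_iff.1 hv
      have h2 := hχ₀ g
      haveI : Fact (1 < p) := ⟨hpp.one_lt⟩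
      rw [h1, ZMod.val_one, pow_one, mul_inv_eq_iff_eq_mul] at h2
      exact ((show Commute (g : G) (w : G) from h2).symm.zpow_left j).eq
    · rw [huniq g 1 (by rw [pow_one, mul_inv_eq_iff_eq_mul]; exact (Subgroup.mem_centralizer_iff.1 h1.2 _ hwC).symm),
        Nat.cast_one]
  refine ⟨C, hCZ, by rw [Nat.card_zpowers, hwG], ?_⟩
  show ((H ⊓ Subgroup.centralizer (C : Set G)).subgroupOf NC).index = p - 1
  rw [← hker, Subgroup.index_ker, MonoidHom.range_eq_top.2 hsurj, Subgroup.card_top, Nat.card_eq_fintype_card,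
    ZMod.card_units_eq_totient, Nat.totient_prime hpp]

end Cfsg.Agent.Solv.ZJFail
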