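import Cfsg.Agent.Lib.Fusion.ZJ
import Cfsg.Agent.Lib.Fusion.ConjFunctor

/-!
# Subgroups of largest order that are abelian modulo a normal subgroup
-/

set_option autoImplicit false

open scoped commutatorElement

namespace Cfsg.Agent.Solv.ZJFail

open Cfsg.Agent.Fusion

variable {G : Type*} [Group G]

/-- Containing `K` and abelian modulo `K`. -/
def AbMod (K A : Subgroup G) : Prop := K ≤ A ∧ ⁅A, A⁆ ≤ K

/-- The members of largest order inside `R`. -/
def Max (K R : Subgroup G) : Set (Subgroup G) := maxIn (AbMod K) R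

/-- The subgroup generated by the members of largest order. -/
def JMod (K R : Subgroup G) : Subgroup G := sSup (Max K R)

variable {K : Subgroup G}

theorem abMod_cj [K.Normal] {A : Subgroup G} (h : AbMod K A) (g : G) : AbMod K (cj A g) := by
  refine ⟨?_, ?_⟩
  · rw [← cj_of_normal K g]; exact cj_mono h.1 g
  · rw [← cj_commutator, ← cj_of_normal K g]; exact cj_mono h.2 g

theorem max_le {R A : Subgroup G} (hA : A ∈ Max K R) : A ≤ R := hA.1

theorem jMod_le (R : Subgroup G) : JMod K R ≤ R := sSup_le fun _ hA => hA.1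

theorem max_mono {R R' A : Subgroup G} (hA : A ∈ Max K R) (hAR : A ≤ R') (hR : R' ≤ R) :
    A ∈ Max K R' :=
  ⟨hAR, hA.2.1, fun B hB hB' => hA.2.2 B (hB.trans hR) hB'⟩

theorem max_of_le {R R' A M : Subgroup G} (hA : A ∈ Max K R') (hM : M ∈ Max K R) (hMR : M ≤ R')
    (hR : R' ≤ R) : A ∈ Max K R :=
  ⟨hA.1.trans hR, hA.2.1, fun B hB hB' => (hM.2.2 B hB hB').trans (hA.2.2 M hMR hM.2.1)⟩

theorem max_cj [K.Normal] {R R' A : Subgroup G} (hA : A ∈ Max K R) {g : G} (hg : cj R g ≤ R')
    (hR' : Nat.card R' ≤ Nat.card R) [Finite G] : cj A g ∈ Max K R' := by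
  have e : cj R g = R' := Subgroup.eq_of_le_of_card_ge hg (by rwa [card_cj])
  refine ⟨e ▸ cj_mono hA.1 g, abMod_cj hA.2.1 g, fun B hB hB' => ?_⟩
  have h := hA.2.2 (cj B g⁻¹) ((cj_mono hB g⁻¹).trans (by rw [← e, cj_cj_inv])) (abMod_cj hB' _)
  rwa [card_cj, ← card_cj A g] at h

theorem max_cj_inside [K.Normal] [Finite G] {R A : Subgroup G} (hA : A ∈ Max K R) {g : G}
    (hg : cj A g ≤ R) : cj A g ∈ Max K R :=
  ⟨hg, abMod_cj hA.2.1 g, fun B hB hB' => (card_cj A g).symm ▸ hA.2.2 B hB hB'⟩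

theorem normalizer_le_jMod [K.Normal] [Finite G] (R : Subgroup G) :
    Subgroup.normalizer (R : Set G) ≤ Subgroup.normalizer (JMod K R : Set G) := by
  intro g hg
  refine mem_normalizer_of_cj_le ?_
  rw [cj_le_iff]
  refine sSup_le fun A hA => ?_
  rw [← cj_le_iff]
  exact le_sSup (max_cj_inside hA ((cj_mono hA.1 g).trans (cj_eq_self hg).le))

theorem max_nonempty [Finite G] [K.Normal] {R : Subgroup G} (hR : K ≤ R) : (Max K R).Nonempty := by
  obtain ⟨A, ⟨hAR, hA⟩, hmax⟩ := Set.exists_max_image {A : Subgroup G | A ≤ R ∧ AbMod K A}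
    (fun A => Nat.card A) (Set.toFinite _) ⟨K, hR, le_rfl, Subgroup.commutator_le_left K K⟩
  exact ⟨A, hAR, hA, fun B hB hB' => hmax B ⟨hB, hB'⟩⟩

/-- Adjoining an element that commutes with a member modulo `K`. -/
theorem mem_of_max [Finite G] [K.Normal] {R A : Subgroup G} (hA : A ∈ Max K R) {x : G} (hx : x ∈ R)
    (hc : ∀ a ∈ A, ⁅x, a⁆ ∈ K) : x ∈ A := by
  set π := QuotientGroup.mk' K
  have hle : A ≤ Subgroup.closure (insert x (A : Set G)) := fun a ha =>
    Subgroup.subset_closure (Or.inr ha)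
  have hab : AbMod K (Subgroup.closure (insert x (A : Set G))) := by
    refine ⟨hA.2.1.1.trans hle, ?_⟩
    have hcomm : ∀ u ∈ insert x (A : Set G), ∀ v ∈ insert x (A : Set G), π u * π v = π v * π u := by
      have hxa : ∀ a ∈ A, π x * π a = π a * π x := fun a ha => by
        rw [← commutatorElement_eq_one_iff_mul_comm, ← map_commutatorElement]
        exact (QuotientGroup.eq_one_iff _).2 (hc a ha)
      rintro u (rfl | hu) v (rfl | hv)
      · rfl
      · exact hxa v hv
      · exact (hxa u hu).symm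
      · rw [← commutatorElement_eq_one_iff_mul_comm, ← map_commutatorElement]
        exact (QuotientGroup.eq_one_iff _).2 (hA.2.1.2 (Subgroup.commutator_mem_commutator hu hv))
    have : IsMulCommutative ((Subgroup.closure (insert x (A : Set G))).map π) := by
      rw [MonoidHom.map_closure]
      refine Subgroup.isMulCommutative_closure ?_
      rintro _ ⟨u, hu, rfl⟩ _ ⟨v, hv, rfl⟩
      exact hcomm u hu v hv
    rw [Subgroup.commutator_le]
    intro u hu v hv
    refine (QuotientGroup.eq_one_iff _).1 ?_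
    change π ⁅u, v⁆ = 1
    rw [map_commutatorElement, commutatorElement_eq_one_iff_mul_comm]
    exact congrArg Subtype.val (this.1.1 ⟨π u, u, hu, rfl⟩ ⟨π v, v, hv, rfl⟩)
  have h := hA.2.2 _ ((Subgroup.closure_le _).2 (Set.insert_subset hx hA.1)) hab
  rw [Subgroup.eq_of_le_of_card_ge hle h]
  exact Subgroup.subset_closure (Or.inl rfl)

/-- Glauberman replacement for subgroups abelian modulo `K`. -/
theorem exists_replacement_mod [Finite G] {p : ℕ} [Fact p.Prime] (hp : p ≠ 2) [K.Normal]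
    {Q B A : Subgroup G} (hQ : IsPGroup p Q) (hBQ : B ≤ Q)
    (hBn : Q ≤ Subgroup.normalizer (B : Set G)) (hKB : K ≤ B) (hA : A ∈ Max K Q)
    (hBA : ⁅B, B⁆ ≤ A) (hnot : ¬ B ≤ Subgroup.normalizer (A : Set G)) :
    ∃ R ∈ Max K Q, A ⊓ B < R ⊓ B ∧ R ⊓ B < B := by
  set π := QuotientGroup.mk' K
  have hsurj := QuotientGroup.mk'_surjective K
  have hker : π.ker = K := QuotientGroup.ker_mk' K
  have hcm : ∀ {X : Subgroup G}, K ≤ X → (X.map π).comap π = X := fun {X} h =>
    Subgroup.comap_map_eq_self (by rw [hker]; exact h)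
  have hKA : K ≤ A := hA.2.1.1
  have hAc : IsMulCommutative (A.map π) := by
    refine ⟨⟨?_⟩⟩
    rintro ⟨_, u, hu, rfl⟩ ⟨_, v, hv, rfl⟩
    refine Subtype.ext ?_
    show π u * π v = π v * π u
    rw [← commutatorElement_eq_one_iff_mul_comm, ← map_commutatorElement]
    exact (QuotientGroup.eq_one_iff _).2 (hA.2.1.2 (Subgroup.commutator_mem_commutator hu hv))
  have hnot' : ¬ B.map π ≤ Subgroup.normalizer (A.map π : Set (G ⧸ K)) := fun h => hnot (by
    have h1 := Subgroup.comap_mono (f := π) h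
    rwa [Subgroup.comap_normalizer_eq_of_surjective _ hsurj, hcm hKA, hcm hKB] at h1)
  obtain ⟨R, hRQ, -, hcard, hR, -, hlt, hltB, -⟩ := exists_replacement_in hp (hQ.map π)
    (Subgroup.map_mono hBQ) ((Subgroup.map_mono hBn).trans (Subgroup.le_normalizer_map π))
    (Subgroup.map_mono hA.1) hAc (by rw [← Subgroup.map_commutator]; exact Subgroup.map_mono hBA) hnot'
  have hKR : K ≤ R.comap π := by
    conv_lhs => rw [← hker]
    exact MonoidHom.ker_le_comap _ _
  have hcard' : Nat.card A ≤ Nat.card ↥(R.comap π) := by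
    have e : ∀ X : Subgroup (G ⧸ K), Nat.card ↥(X.comap π) * X.index = Nat.card G := fun X => by
      rw [← Subgroup.index_comap_of_surjective X hsurj, Subgroup.card_mul_index]
    have hi : (A.map π).index = R.index := by
      have h1 := Subgroup.card_mul_index (A.map π)
      rw [← Subgroup.card_mul_index R, hcard] at h1
      exact Nat.eq_of_mul_eq_mul_left Nat.card_pos h1
    rw [← hcm hKA]
    refine (Nat.eq_of_mul_eq_mul_right (Nat.pos_of_ne_zero (Subgroup.index_ne_zero_of_finite (H := R))) ?_).le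
    rw [← hi, e, hi]
    exact (e R).symm
  refine ⟨R.comap π, ⟨?_, ⟨hKR, ?_⟩, fun C hC hC' => (hA.2.2 C hC hC').trans hcard'⟩, ?_, ?_⟩
  · rw [← hcm (hKA.trans hA.1)]; exact Subgroup.comap_mono hRQ
  · rw [Subgroup.commutator_le]
    intro u hu v hv
    refine (QuotientGroup.eq_one_iff _).1 ?_
    change π ⁅u, v⁆ = 1
    rw [map_commutatorElement, commutatorElement_eq_one_iff_mul_comm]
    exact congrArg Subtype.val (hR.1.1 ⟨π u, hu⟩ ⟨π v, hv⟩)
  · have h := (Subgroup.comap_lt_comap_of_surjective hsurj).2 hlt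
    rwa [Subgroup.comap_inf, Subgroup.comap_inf, hcm hKA, hcm hKB] at h
  · have h := (Subgroup.comap_lt_comap_of_surjective hsurj).2 hltB
    rwa [Subgroup.comap_inf, hcm hKB] at h

end Cfsg.Agent.Solv.ZJFail
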