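import Cfsg.Agent.Lib.Solv.ZJFail.LinearModel
import Cfsg.Agent.Lib.Fusion.DicksonMatrix
import Cfsg.Agent.Lib.Fusion.Basic

/-!
# Two quadratic elements on an irreducible section
-/

set_option autoImplicit false
set_option linter.style.haveILetI false

open scoped commutatorElement
open Matrix

namespace Cfsg.Agent.Solv.ZJFail

open Cfsg.Agent.Fusion

universe u

variable {G : Type u} [Group G] [Finite G] {p : ℕ} [hp : Fact p.Prime]

/-- Two elements acting quadratically and irreducibly on an elementary abelian section act as transvections of a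
plane over a finite field. -/
theorem exists_field_model (W B₂ : Subgroup G) (a x : G) (hB : B₂ ≤ W)
    (haW : a ∈ Subgroup.normalizer (W : Set G)) (hxW : x ∈ Subgroup.normalizer (W : Set G))
    (haB : a ∈ Subgroup.normalizer (B₂ : Set G)) (hxB : x ∈ Subgroup.normalizer (B₂ : Set G))
    (hWW : ∀ u ∈ W, ∀ v ∈ W, ⁅u, v⁆ ∈ B₂) (hWp : ∀ u ∈ W, u ^ p ∈ B₂)
    (haq : ∀ u ∈ W, ⁅a, ⁅a, u⁆⁆ ∈ B₂) (hxq : ∀ u ∈ W, ⁅x, ⁅x, u⁆⁆ ∈ B₂)
    (hirr : ∀ U : Subgroup G, B₂ ≤ U → U ≤ W → a ∈ Subgroup.normalizer (U : Set G) →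
      x ∈ Subgroup.normalizer (U : Set G) → U = B₂ ∨ U = W)
    (hne : ∃ u ∈ W, ⁅a, u⁆ ∉ B₂ ∨ ⁅x, u⁆ ∉ B₂) :
    ∃ (F : Type u) (_ : Field F) (_ : Finite F) (_ : CharP F p) (ψ : G → (Fin 2 → F)) (μ : F),
      μ ≠ 0 ∧ (∀ u ∈ W, ∀ v ∈ W, ψ (u * v) = ψ u + ψ v) ∧ (∀ u ∈ W, ψ u = 0 ↔ u ∈ B₂) ∧
      (∀ c, ∃ u ∈ W, ψ u = c) ∧
      (∀ u ∈ W, ψ (a * u * a⁻¹) = (Dickson.upU (1 : F)).1 *ᵥ ψ u) ∧
      ∀ u ∈ W, ψ (x * u * x⁻¹) = (Dickson.lowL μ).1 *ᵥ ψ u := by
  classical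
  haveI hn : (B₂.subgroupOf W).Normal := ⟨fun v hv w => by
    rw [Subgroup.mem_subgroupOf] at hv ⊢
    have h := mul_mem (hWW w w.2 v v.2) hv
    rw [show ⁅(w : G), (v : G)⁆ * v = w * v * (w : G)⁻¹ by rw [commutatorElement_def]; group] at h
    exact h⟩
  let π := QuotientGroup.mk' (B₂.subgroupOf W)
  have hπ : ∀ u : W, π u = 1 ↔ (u : G) ∈ B₂ := fun u => by
    rw [QuotientGroup.mk'_apply, QuotientGroup.eq_one_iff, Subgroup.mem_subgroupOf]
  have hπs : Function.Surjective π := QuotientGroup.mk'_surjective _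
  letI : CommGroup (↥W ⧸ B₂.subgroupOf W) :=
    { (inferInstance : Group (↥W ⧸ B₂.subgroupOf W)) with
      mul_comm := fun q r => by
        obtain ⟨u, rfl⟩ := hπs q
        obtain ⟨v, rfl⟩ := hπs r
        rw [← commutatorElement_eq_one_iff_mul_comm, ← map_commutatorElement, hπ]
        exact hWW u u.2 v v.2 }
  let q : ↥W → (Additive (↥W ⧸ B₂.subgroupOf W)) := fun u => Additive.ofMul (π u)
  have qmul : ∀ u v, q (u * v) = q u + q v := fun u v => congrArg Additive.ofMul (map_mul π u v)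
  have qzero : ∀ u, q u = 0 ↔ (u : G) ∈ B₂ := fun u =>
    ⟨fun h => (hπ u).1 (Additive.ofMul.injective h), fun h => congrArg Additive.ofMul ((hπ u).2 h)⟩
  have qs : Function.Surjective q := fun v => by
    obtain ⟨u, hu⟩ := hπs v.toMul
    exact ⟨u, by show Additive.ofMul (π u) = v; rw [hu]; rfl⟩
  have hexp : ∀ v : Additive (↥W ⧸ B₂.subgroupOf W), p • v = 0 := fun v => by
    obtain ⟨u, rfl⟩ := qs v
    have h : ∀ k : ℕ, k • q u = q (u ^ k) := fun k => by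
      induction k with
      | zero => rw [zero_smul, pow_zero]; exact ((qzero 1).2 (one_mem _)).symm
      | succ k ih => rw [succ_nsmul, ih, pow_succ, qmul]
    rw [h, qzero]
    exact hWp u u.2
  letI : Module (ZMod p) (Additive (↥W ⧸ B₂.subgroupOf W)) := AddCommGroup.zmodModule (n := p) hexp
  -- the operators
  have mk : ∀ g : G, g ∈ Subgroup.normalizer (W : Set G) → g ∈ Subgroup.normalizer (B₂ : Set G) →
      ∃ T : Module.End (ZMod p) (Additive (↥W ⧸ B₂.subgroupOf W)), ∀ u : W, ∃ hu : g * u * g⁻¹ ∈ W, T (q u) = q ⟨_, hu⟩ - q u := by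
    intro g hg hgB
    have hgu : ∀ u : W, g * u * g⁻¹ ∈ W := fun u => (Subgroup.mem_normalizer_iff.1 hg u).1 u.2
    let c : ↥W →* ↥W :=
      { toFun := fun u => ⟨g * u * g⁻¹, hgu u⟩
        map_one' := Subtype.ext (by simp)
        map_mul' := fun u v => Subtype.ext (by simp [mul_assoc]) }
    let cq : (↥W ⧸ B₂.subgroupOf W) →* (↥W ⧸ B₂.subgroupOf W) :=
      QuotientGroup.map _ _ c fun u hu => by
        rw [Subgroup.mem_comap, Subgroup.mem_subgroupOf]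
        exact (Subgroup.mem_normalizer_iff.1 hgB u).1 hu
    let T₀ : (Additive (↥W ⧸ B₂.subgroupOf W)) →+ (Additive (↥W ⧸ B₂.subgroupOf W)) := MonoidHom.toAdditive cq - AddMonoidHom.id (Additive (↥W ⧸ B₂.subgroupOf W))
    exact ⟨T₀.toZModLinearMap p, fun u => ⟨hgu u, rfl⟩⟩
  obtain ⟨A, hA⟩ := mk a haW haB
  obtain ⟨X, hX⟩ := mk x hxW hxB
  have conjW : ∀ {g : G}, g ∈ Subgroup.normalizer (W : Set G) → ∀ u ∈ W, ⁅g, u⁆ ∈ W := fun {g} hg u hu => by
    rw [commutatorElement_def]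
    exact mul_mem ((Subgroup.mem_normalizer_iff.1 hg u).1 hu) (inv_mem hu)
  have diff : ∀ {g : G} (hg : g ∈ Subgroup.normalizer (W : Set G)) {T : Module.End (ZMod p) (Additive (↥W ⧸ B₂.subgroupOf W))},
      (∀ u : W, ∃ hu : g * u * g⁻¹ ∈ W, T (q u) = q ⟨_, hu⟩ - q u) → ∀ u : W,
      T (q u) = q ⟨⁅g, u⁆, conjW hg u u.2⟩ := by
    intro g hg T hT u
    obtain ⟨hu, e⟩ := hT u
    rw [e, sub_eq_iff_eq_add, ← qmul]
    congr 1
    exact Subtype.ext (by simp [commutatorElement_def])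
  have sq : ∀ {g : G} (hg : g ∈ Subgroup.normalizer (W : Set G)) {T : Module.End (ZMod p) (Additive (↥W ⧸ B₂.subgroupOf W))},
      (∀ u : W, ∃ hu : g * u * g⁻¹ ∈ W, T (q u) = q ⟨_, hu⟩ - q u) →
      (∀ u ∈ W, ⁅g, ⁅g, u⁆⁆ ∈ B₂) → T * T = 0 := by
    intro g hg T hT h2
    refine LinearMap.ext fun v => ?_
    obtain ⟨u, rfl⟩ := qs v
    show T (T (q u)) = 0
    rw [diff hg hT, diff hg hT, qzero]
    exact h2 u u.2
  have qneg : ∀ u, q u⁻¹ = -q u := fun u =>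
    eq_neg_of_add_eq_zero_left (by rw [← qmul, inv_mul_cancel, qzero]; exact one_mem _)
  have invar : ∀ U : Submodule (ZMod p) (Additive (↥W ⧸ B₂.subgroupOf W)), (∀ v ∈ U, A v ∈ U) → (∀ v ∈ U, X v ∈ U) → U = ⊥ ∨ U = ⊤ := by
    intro U hUA hUX
    let U₀ : Subgroup ↥W :=
      { carrier := {u | q u ∈ U}
        one_mem' := by
          show q 1 ∈ U
          rw [(qzero 1).2 (one_mem _)]
          exact U.zero_mem
        mul_mem' := fun {u v} hu hv => by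
          show q (u * v) ∈ U
          rw [qmul]; exact U.add_mem hu hv
        inv_mem' := fun {u} hu => by
          show q u⁻¹ ∈ U
          rw [qneg]; exact U.neg_mem hu }
    have norm : ∀ {g : G} (hg : g ∈ Subgroup.normalizer (W : Set G)) {T : Module.End (ZMod p) (Additive (↥W ⧸ B₂.subgroupOf W))},
        (∀ u : W, ∃ hu : g * u * g⁻¹ ∈ W, T (q u) = q ⟨_, hu⟩ - q u) → (∀ v ∈ U, T v ∈ U) →
        g ∈ Subgroup.normalizer (U₀.map W.subtype : Set G) := by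
      intro g _ T hT hU
      refine mem_normalizer_of_cj_le ?_
      rintro _ ⟨_, ⟨u, hu, rfl⟩, rfl⟩
      obtain ⟨hu', e⟩ := hT u
      refine ⟨⟨_, hu'⟩, ?_, rfl⟩
      show q _ ∈ U
      have h := U.add_mem (hU _ hu) hu
      rw [e, sub_add_cancel] at h
      exact h
    rcases hirr (U₀.map W.subtype) (fun b hb => ⟨⟨b, hB hb⟩, by
        show q _ ∈ U
        rw [(qzero ⟨b, hB hb⟩).2 hb]
        exact U.zero_mem, rfl⟩) (Subgroup.map_subtype_le _) (norm haW hA hUA) (norm hxW hX hUX) with h | h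
    · left
      rw [eq_bot_iff]
      intro v hv
      obtain ⟨u, rfl⟩ := qs v
      rw [Submodule.mem_bot, qzero, ← h]
      exact ⟨u, hv, rfl⟩
    · right
      rw [eq_top_iff]
      intro v _
      obtain ⟨u, rfl⟩ := qs v
      obtain ⟨w, hw, e⟩ := h.ge u.2
      rw [show u = w from Subtype.ext e.symm]
      exact hw
  have hAX : A ≠ 0 ∨ X ≠ 0 := by
    obtain ⟨u, hu, h⟩ := hne
    refine h.imp (fun h0 e => h0 ?_) (fun h0 e => h0 ?_)
    · have := (diff haW hA ⟨u, hu⟩).symm.trans (LinearMap.congr_fun e _)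
      exact (qzero _).1 this
    · have := (diff hxW hX ⟨u, hu⟩).symm.trans (LinearMap.congr_fun e _)
      exact (qzero _).1 this
  obtain ⟨F, iF, iFin, iC, θ, μ, hμ, hθA, hθX⟩ :=
    linear_model A X (sq haW hA haq) (sq hxW hX hxq) invar hAX
  refine ⟨F, iF, iFin, iC, fun g => if hg : g ∈ W then θ (q ⟨g, hg⟩) else 0, μ, hμ, fun u hu v hv => ?_,
    fun u hu => ?_, fun c => ?_, fun u hu => ?_, fun u hu => ?_⟩
  · dsimp only
    rw [dif_pos (mul_mem hu hv), dif_pos hu, dif_pos hv, ← map_add, ← qmul]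
    rfl
  · dsimp only
    rw [dif_pos hu, AddEquiv.map_eq_zero_iff, qzero]
  · obtain ⟨u, hu⟩ := qs (θ.symm c)
    exact ⟨u, u.2, by dsimp only; rw [dif_pos u.2, Subtype.coe_eta, hu, θ.apply_symm_apply]⟩
  · obtain ⟨hu', e⟩ := hA ⟨u, hu⟩
    dsimp only
    rw [dif_pos hu', dif_pos hu, ← add_sub_cancel (q ⟨u, hu⟩) (q ⟨_, hu'⟩), ← e, map_add, hθA]
    funext i
    fin_cases i <;> simp [mulVec, dotProduct, Fin.sum_univ_two]
  · obtain ⟨hu', e⟩ := hX ⟨u, hu⟩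
    dsimp only
    rw [dif_pos hu', dif_pos hu, ← add_sub_cancel (q ⟨u, hu⟩) (q ⟨_, hu'⟩), ← e, map_add, hθX]
    funext i
    fin_cases i <;> simp [mulVec, dotProduct, Fin.sum_univ_two, add_comm]

end Cfsg.Agent.Solv.ZJFail
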