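import Mathlib

/-!
# Two quadratic operators without a common invariant subspace
-/

set_option autoImplicit false

namespace Cfsg.Agent.Solv.ZJFail

universe u

variable {p : ℕ} [hp : Fact p.Prime] {V : Type u} [AddCommGroup V] [Module (ZMod p) V] [Finite V]

/-- Two operators with vanishing square, irreducible together, act as transvections of a plane over a finite field. -/
theorem linear_model (A X : Module.End (ZMod p) V) (hA : A * A = 0) (hX : X * X = 0)
    (hirr : ∀ U : Submodule (ZMod p) V, (∀ u ∈ U, A u ∈ U) → (∀ u ∈ U, X u ∈ U) → U = ⊥ ∨ U = ⊤)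
    (hne : A ≠ 0 ∨ X ≠ 0) :
    ∃ (F : Type u) (_ : Field F) (_ : Finite F) (_ : CharP F p) (ψ : V ≃+ (Fin 2 → F)) (μ : F),
      μ ≠ 0 ∧ (∀ v, ψ (A v) = ![ψ v 1, 0]) ∧ ∀ v, ψ (X v) = ![0, μ * ψ v 0] := by
  classical
  have hA2 : ∀ v, A (A v) = 0 := fun v => LinearMap.congr_fun hA v
  have hX2 : ∀ v, X (X v) = 0 := fun v => LinearMap.congr_fun hX v
  set P := LinearMap.ker A with hP
  set Y := LinearMap.ker X with hY
  have hmP : ∀ {v}, v ∈ P ↔ A v = 0 := LinearMap.mem_ker
  have hmY : ∀ {v}, v ∈ Y ↔ X v = 0 := LinearMap.mem_ker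
  -- no common fixed vector
  have hint : P ⊓ Y = ⊥ := by
    rcases hirr (P ⊓ Y) (fun u hu => by rw [hmP.1 hu.1]; exact zero_mem _)
      (fun u hu => by rw [hmY.1 hu.2]; exact zero_mem _) with h | h
    · exact h
    · exfalso
      rcases hne with h' | h' <;> refine h' (LinearMap.ext fun v => ?_)
      · exact hmP.1 (h.ge (Submodule.mem_top (x := v))).1
      · exact hmY.1 (h.ge (Submodule.mem_top (x := v))).2
  have hzero : ∀ {v}, A v = 0 → X v = 0 → v = 0 := fun {v} h1 h2 =>
    (Submodule.mem_bot (ZMod p)).1 (hint.le ⟨hmP.2 h1, hmY.2 h2⟩)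
  have hrange : LinearMap.range A ⊔ LinearMap.range X = ⊤ := by
    refine (hirr _ (fun u _ => Submodule.mem_sup_left (LinearMap.mem_range_self A u))
      (fun u _ => Submodule.mem_sup_right (LinearMap.mem_range_self X u))).resolve_left fun h => ?_
    rw [sup_eq_bot_iff, LinearMap.range_eq_bot, LinearMap.range_eq_bot] at h
    rcases hne with h' | h'
    exacts [h' h.1, h' h.2]
  have hsplit : ∀ v, ∃ p' q', v = A p' + X q' := fun v => by
    obtain ⟨_, ⟨p', rfl⟩, _, ⟨q', rfl⟩, e⟩ := Submodule.mem_sup.1 (hrange.ge (Submodule.mem_top (x := v)))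
    exact ⟨p', q', e.symm⟩
  -- the composite on the fixed space of `A`
  let M₀ : Module.End (ZMod p) P := (A.comp X).restrict (p := P) (q := P) fun v _ => hmP.2 (hA2 _)
  set R := Algebra.adjoin (ZMod p) ({M₀} : Set (Module.End (ZMod p) P)) with hR
  have hcomm : ∀ r ∈ R, r * M₀ = M₀ * r := by
    intro r hr
    induction hr using Algebra.adjoin_induction with
    | mem r hr => rw [Set.mem_singleton_iff.1 hr]
    | algebraMap c => exact Algebra.commutes c M₀
    | add r s _ _ h1 h2 => rw [add_mul, mul_add, h1, h2]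
    | mul r s _ _ h1 h2 => rw [mul_assoc, h2, ← mul_assoc, h1, mul_assoc]
  haveI : Finite (Module.End (ZMod p) P) := Finite.of_injective _ DFunLike.coe_injective
  haveI : Finite R := inferInstance
  letI : CommRing R := Algebra.adjoinCommRingOfComm (ZMod p) (by
    rintro a (rfl : a = M₀) b (rfl : b = M₀); rfl)
  -- invariant subspaces of the composite
  have hP0 : ∀ U : Submodule (ZMod p) P, (∀ u ∈ U, M₀ u ∈ U) → U = ⊥ ∨ U = ⊤ := by
    intro U hU
    let U' : Submodule (ZMod p) V := U.map P.subtype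
    let W : Submodule (ZMod p) V := U' ⊔ U'.map X
    have hinU : ∀ u ∈ U', A (X u) ∈ U' := by
      rintro _ ⟨u, hu, rfl⟩
      exact ⟨M₀ u, hU u hu, rfl⟩
    have h1 : ∀ u ∈ W, A u ∈ W := fun u hu => by
      obtain ⟨u₁, ⟨u, hu', rfl⟩, _, ⟨u₂, hu₂, rfl⟩, rfl⟩ := Submodule.mem_sup.1 hu
      rw [map_add, show A (P.subtype u) = 0 from hmP.1 u.2, zero_add]
      exact Submodule.mem_sup_left (hinU _ hu₂)
    have h2 : ∀ u ∈ W, X u ∈ W := fun u hu => by
      obtain ⟨u₁, hu₁, _, ⟨u₂, hu₂, rfl⟩, rfl⟩ := Submodule.mem_sup.1 hu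
      rw [map_add, hX2, add_zero]
      exact Submodule.mem_sup_right ⟨u₁, hu₁, rfl⟩
    rcases hirr W h1 h2 with h | h
    · left
      rw [eq_bot_iff]
      intro u hu
      exact (Submodule.mem_bot (ZMod p)).2 (Subtype.ext ((Submodule.mem_bot (ZMod p)).1
        (h.le (Submodule.mem_sup_left ⟨u, hu, rfl⟩))))
    · right
      rw [eq_top_iff]
      intro v _
      obtain ⟨u₁, hu₁, _, ⟨u₂, hu₂, rfl⟩, e⟩ := Submodule.mem_sup.1 (h.ge (Submodule.mem_top (x := (v : V))))
      have h2 : A u₁ = 0 := by obtain ⟨u, -, rfl⟩ := hu₁; exact hmP.1 u.2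
      have h3 : X u₂ = 0 := hzero (by
        have := congrArg A e
        rwa [map_add, h2, zero_add, hmP.1 v.2] at this) (hX2 _)
      rw [h3, add_zero] at e
      obtain ⟨u, hu, e'⟩ := hu₁
      rwa [show v = u from Subtype.ext (e.symm.trans e'.symm)]
  have hPne : ∃ u : P, u ≠ 0 := by
    by_contra hcon
    push Not at hcon
    have hA0 : ∀ v, A v = 0 := fun v => congrArg Subtype.val (hcon ⟨A v, hmP.2 (hA2 v)⟩)
    rcases hne with h' | h'
    · exact h' (LinearMap.ext hA0)
    · refine h' (LinearMap.ext fun v => ?_)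
      have : (v : V) = 0 := congrArg Subtype.val (hcon ⟨v, hmP.2 (hA0 v)⟩)
      rw [this, map_zero]; rfl
  have hinj : ∀ r : R, r ≠ 0 → Function.Injective (r.1 : P → P) := by
    intro r hr
    rw [← LinearMap.ker_eq_bot]
    refine (hP0 (LinearMap.ker r.1) fun u hu => ?_).resolve_right fun h => hr ?_
    · rw [LinearMap.mem_ker] at hu ⊢
      have := LinearMap.congr_fun (hcomm r.1 r.2) u
      simp only [Module.End.mul_apply] at this
      rw [this, hu, map_zero]
    · exact Subtype.ext (LinearMap.ker_eq_top.1 h)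
  obtain ⟨x₀, hx₀⟩ := hPne
  haveI : Nontrivial R := ⟨1, 0, fun h => hx₀ (by
    have := LinearMap.congr_fun (congrArg Subtype.val h) x₀
    simpa using this)⟩
  haveI : NoZeroDivisors R := by
    refine ⟨fun {r s} h => ?_⟩
    by_contra hcon
    push Not at hcon
    refine hcon.2 (Subtype.ext (LinearMap.ext fun u => hinj r hcon.1 ?_))
    have h1 := LinearMap.congr_fun (congrArg Subtype.val h) u
    simpa [Module.End.mul_apply] using h1
  haveI : IsDomain R := NoZeroDivisors.to_isDomain _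
  letI : Fintype R := Fintype.ofFinite R
  letI : Field R := Fintype.fieldOfDomain R
  haveI : CharP R p := charP_of_injective_algebraMap (algebraMap (ZMod p) R).injective p
  -- the fixed space is a line
  let φ : R →+ P :=
    { toFun := fun r => r.1 x₀, map_zero' := rfl, map_add' := fun _ _ => rfl }
  have hφi : Function.Injective φ := by
    intro r s h
    by_contra hne'
    refine hx₀ (hinj (r - s) (sub_ne_zero.2 hne') ?_)
    change (r.1 - s.1) x₀ = (r.1 - s.1) 0
    rw [map_zero, LinearMap.sub_apply, sub_eq_zero]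
    exact h
  have hφs : Function.Surjective φ := by
    let U : Submodule (ZMod p) P :=
      (Subalgebra.toSubmodule R).map (LinearMap.applyₗ (R := ZMod p) x₀)
    have hU : U = ⊤ := (hP0 U (by
      rintro _ ⟨r, hr, rfl⟩
      exact ⟨M₀ * r, R.mul_mem (Algebra.subset_adjoin rfl) hr, rfl⟩)).resolve_left fun h =>
        hx₀ ((Submodule.mem_bot (ZMod p)).1 (h.le ⟨1, R.one_mem, rfl⟩))
    intro u
    obtain ⟨r, hr, e⟩ := hU.ge (Submodule.mem_top (x := u))
    exact ⟨⟨r, hr⟩, e⟩
  let μ : R := ⟨M₀, Algebra.subset_adjoin rfl⟩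
  have hμφ : ∀ r : R, φ (μ * r) = M₀ (φ r) := fun r => rfl
  -- coordinates
  let θ : (Fin 2 → R) →+ V :=
    { toFun := fun c => (φ (c 0) : V) + X ((φ (μ⁻¹ * c 1) : P) : V)
      map_zero' := by simp
      map_add' := fun c d => by
        simp only [Pi.add_apply, mul_add, map_add, Submodule.coe_add]
        abel }
  have hμ : μ ≠ 0 := fun h => hx₀ (by
    have h1 : A (X (x₀ : V)) = 0 := congrArg Subtype.val (LinearMap.congr_fun (congrArg Subtype.val h) x₀)
    exact Subtype.ext (hzero (hmP.1 x₀.2) (hzero h1 (hX2 _))))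
  have hAθ : ∀ c, A (θ c) = θ ![c 1, 0] := fun c => by
    show A ((φ (c 0) : V) + X ((φ (μ⁻¹ * c 1) : P) : V)) = (φ (c 1) : V) + X ((φ (μ⁻¹ * 0) : P) : V)
    rw [mul_zero, map_zero, Submodule.coe_zero, map_zero, add_zero, map_add,
      show A (φ (c 0) : V) = 0 from hmP.1 (φ (c 0)).2, zero_add,
      show A (X ((φ (μ⁻¹ * c 1) : P) : V)) = ((M₀ (φ (μ⁻¹ * c 1)) : P) : V) from rfl, ← hμφ,
      mul_inv_cancel_left₀ hμ]
  have hXθ : ∀ c, X (θ c) = θ ![0, μ * c 0] := fun c => by
    show X ((φ (c 0) : V) + X ((φ (μ⁻¹ * c 1) : P) : V)) = (φ 0 : V) + X ((φ (μ⁻¹ * (μ * c 0)) : P) : V)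
    rw [map_add, hX2, add_zero, map_zero, Submodule.coe_zero, zero_add, inv_mul_cancel_left₀ hμ]
  have hθi : Function.Injective θ := by
    rw [injective_iff_map_eq_zero]
    intro c hc
    have h1 := congrArg A hc
    rw [hAθ, map_zero] at h1
    have h1' : (φ (c 1) : V) = 0 := by
      have : θ ![c 1, 0] = (φ (c 1) : V) := by
        show (φ (c 1) : V) + X ((φ (μ⁻¹ * 0) : P) : V) = _
        rw [mul_zero, map_zero, Submodule.coe_zero, map_zero, add_zero]
      rwa [this] at h1
    have hc1 : c 1 = 0 := (injective_iff_map_eq_zero φ).1 hφi _ (Subtype.ext h1')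
    have hc0 : c 0 = 0 := by
      change (φ (c 0) : V) + X ((φ (μ⁻¹ * c 1) : P) : V) = 0 at hc
      rw [hc1, mul_zero, map_zero, Submodule.coe_zero, map_zero, add_zero] at hc
      exact (injective_iff_map_eq_zero φ).1 hφi _ (Subtype.ext hc)
    funext i
    fin_cases i
    exacts [hc0, hc1]
  have hθs : Function.Surjective θ := by
    intro v
    obtain ⟨p', q', rfl⟩ := hsplit v
    obtain ⟨p₁, q₁, hq⟩ := hsplit q'
    have e : X q' = X (A p₁) := by rw [hq, map_add, hX2, add_zero]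
    obtain ⟨r, hr⟩ := hφs ⟨A p', hmP.2 (hA2 _)⟩
    obtain ⟨s, hs⟩ := hφs ⟨A p₁, hmP.2 (hA2 _)⟩
    refine ⟨![r, μ * s], ?_⟩
    show (φ r : V) + X ((φ (μ⁻¹ * (μ * s)) : P) : V) = _
    rw [inv_mul_cancel_left₀ hμ, hr, hs, e]
  have hθ : Function.Bijective θ := ⟨hθi, hθs⟩
  let e := AddEquiv.ofBijective θ hθ
  have he : ∀ c, e.symm (θ c) = c := fun c => e.symm_apply_apply c
  refine ⟨R, inferInstance, inferInstance, inferInstance, e.symm, μ, hμ, fun v => ?_, fun v => ?_⟩
  all_goals obtain ⟨c, rfl⟩ := hθs v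
  all_goals rw [he]
  · rw [hAθ, he]
  · rw [hXθ, he]

end Cfsg.Agent.Solv.ZJFail
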