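import Cfsg.Agent.Lib.Fusion.ConjFunctor
import Cfsg.Agent.Lib.Fusion.Alperin

/-!
# Local-to-global inside a subgroup, for admissible domains
-/

set_option autoImplicit false

namespace Cfsg.Agent.Solv.ZJFail

open Cfsg.Agent.Fusion

variable {G : Type*} [Group G] [Finite G] {p : ℕ} [Fact p.Prime] {S Y Q : Subgroup G}

/-- Every subgroup of a Sylow subgroup of `Y` has a well placed conjugate under `Y`. -/
theorem exists_extremal_in (hQY : SylIn p Q Y) {T : Subgroup G} (hT : T ≤ Q) :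
    ∃ c ∈ Y, cj T c ≤ Q ∧ SylIn p (Q ⊓ Subgroup.normalizer (cj T c : Set G))
      (Y ⊓ Subgroup.normalizer (cj T c : Set G)) := by
  obtain ⟨R, hR, hTR⟩ := exists_sylIn_ge (H := Y ⊓ Subgroup.normalizer (T : Set G))
    (hQY.isPGroup.to_le hT) (le_inf (hT.trans hQY.le) Subgroup.le_normalizer)
  obtain ⟨g, hg, hgR⟩ := hQY.conj_le hR.isPGroup (hR.le.trans inf_le_left)
  refine ⟨g, hg, (cj_mono hTR g).trans hgR, ?_⟩
  have h1 := hR.cj g
  rw [cj_inf, cj_normalizer, cj_eq_self (Subgroup.le_normalizer hg)] at h1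
  have h2 : Q ⊓ Subgroup.normalizer (cj T g : Set G) = cj R g :=
    h1.eq_of_le hQY.isPGroup.to_inf_left (le_inf hgR (h1.le.trans inf_le_right)) (inf_le_inf_right _ hQY.le)
  rwa [h2]

/-- Fusion in `Y` on admissible domains from fusion in the local subgroups. -/
theorem rel_local_to_global {Φ : Set G → G → Prop} (hΦ : FusPred S Φ) (hQY : SylIn p Q Y) (hQS : Q ≤ S)
    (adm : Subgroup G → Prop) (hup : ∀ X X' : Subgroup G, X ≤ X' → X' ≤ Q → adm X → adm X')
    (hcj : ∀ (X : Subgroup G) (y : G), X ≤ Q → y ∈ Y → cj X y ≤ Q → adm X → adm (cj X y))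
    (W : Subgroup G → Subgroup G) (hWle : ∀ R : Subgroup G, W R ≤ R)
    (hWn : ∀ R : Subgroup G, Subgroup.normalizer (R : Set G) ≤ Subgroup.normalizer (W R : Set G))
    (hgood : ∀ U : Subgroup G, U ≤ Q → adm U →
      adm (W (Q ⊓ Subgroup.normalizer (U : Set G))) ∧
        ¬ Y ≤ Subgroup.normalizer (W (Q ⊓ Subgroup.normalizer (U : Set G)) : Set G))
    (hbase : ∀ x ∈ Y ⊓ Subgroup.normalizer (W Q : Set G), ∀ A : Set G, A ⊆ Q → lcj x A ⊆ Q →
      adm (Subgroup.closure A) → Φ A x)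
    (hnorm : ∀ U : Subgroup G, U ≤ Q → adm U → Y ≤ Subgroup.normalizer (U : Set G) →
      ∀ n ∈ Y, Φ (U : Set G) n)
    (hloc : ∀ U : Subgroup G, U ≤ Q → adm U → ¬ Y ≤ Subgroup.normalizer (U : Set G) →
      ∀ Q' : Subgroup G, Q' = Q ⊓ Subgroup.normalizer (U : Set G) →
      SylIn p Q' (Y ⊓ Subgroup.normalizer (U : Set G)) →
      (∀ x ∈ Y ⊓ Subgroup.normalizer (U : Set G) ⊓ Subgroup.normalizer (W Q' : Set G),
        ∀ B : Set G, B ⊆ Q' → lcj x B ⊆ Q' → Φ B x) →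
      ∀ n ∈ Y ⊓ Subgroup.normalizer (U : Set G), ∀ A : Set G, A ⊆ Q' → lcj n A ⊆ Q' → Φ A n)
    {X : Subgroup G} {g : G} (hX : X ≤ Q) (hXa : adm X) (hg : g ∈ Y) (hXg : cj X g ≤ Q) :
    Φ (X : Set G) g := by
  suffices H : ∀ k : ℕ,
      (∀ (X : Subgroup G) (g : G), Nat.card Q ≤ Nat.card X + k → X ≤ Q → adm X → g ∈ Y → cj X g ≤ Q →
        Φ (X : Set G) g) ∧
      (∀ U : Subgroup G, U ≤ Q → adm U → Nat.card Q ≤ Nat.card ↥(Q ⊓ Subgroup.normalizer (U : Set G)) + k →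
        ∀ x ∈ Y ⊓ Subgroup.normalizer (W (Q ⊓ Subgroup.normalizer (U : Set G)) : Set G),
        ∀ A : Set G, A ⊆ (Q ⊓ Subgroup.normalizer (U : Set G) : Subgroup G) →
          lcj x A ⊆ (Q ⊓ Subgroup.normalizer (U : Set G) : Subgroup G) → adm (Subgroup.closure A) → Φ A x) from
    (H (Nat.card Q)).1 X g (Nat.le_add_left _ _) hX hXa hg hXg
  intro k
  induction k using Nat.strong_induction_on with
  | _ k IH =>
  have hlt_of_lt : ∀ {X Y : Subgroup G}, X < Y → Nat.card X < Nat.card Y := fun {X Y} h => by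
    by_contra hcon
    exact h.ne (Subgroup.eq_of_le_of_card_ge h.le (by omega))
  have bigA : ∀ (Y' : Subgroup G) (h : G) (X : Subgroup G), Nat.card Q ≤ Nat.card X + k →
      Nat.card X < Nat.card Y' → Y' ≤ Q → adm Y' → h ∈ Y → cj Y' h ≤ Q → Φ (Y' : Set G) h := by
    intro Y' h X hX hlt hY ha hh hYh
    have := Subgroup.card_le_of_le hY
    exact (IH (k - 1) (by omega)).1 Y' h (by omega) hY ha hh hYh
  have inner : ∀ (U : Subgroup G), U ≤ Q → adm U → ∀ n : ℕ, Nat.card Q ≤ n + k →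
      (Q ⊓ Subgroup.normalizer (U : Set G) = Q ∨ n < Nat.card ↥(Q ⊓ Subgroup.normalizer (U : Set G))) →
      ∀ x ∈ Y ⊓ Subgroup.normalizer (U : Set G) ⊓
        Subgroup.normalizer (W (Q ⊓ Subgroup.normalizer (U : Set G)) : Set G),
      ∀ B : Set G, B ⊆ (Q ⊓ Subgroup.normalizer (U : Set G) : Subgroup G) →
        lcj x B ⊆ (Q ⊓ Subgroup.normalizer (U : Set G) : Subgroup G) → Φ B x := by
    intro U hU hUa n hn hcase x hx B hB hxB
    set Q' := Q ⊓ Subgroup.normalizer (U : Set G) with hQ'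
    have hUQ : U ≤ Q' := le_inf hU Subgroup.le_normalizer
    have h1 : B ∪ U ⊆ (Q' : Set G) := Set.union_subset hB hUQ
    have h2 : lcj x (B ∪ U) ⊆ (Q' : Set G) := by
      rw [lcj, Set.image_union]
      exact Set.union_subset hxB (lcj_subset_coe.2 ((cj_eq_self hx.1.2).le.trans hUQ))
    have h3 : adm (Subgroup.closure (B ∪ U)) :=
      hup U _ (fun a ha => Subgroup.subset_closure (Or.inr ha))
        ((Subgroup.closure_le _).2 (h1.trans fun _ h => h.1)) hUa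
    refine hΦ.mono Set.subset_union_left (h1.trans fun _ h => hQS h.1) ?_
    rcases hcase with h | h
    · exact hbase x ⟨hx.1.1, h ▸ hx.2⟩ _ (h ▸ h1) (h ▸ h2) h3
    · have := Subgroup.card_le_of_le (inf_le_left : Q' ≤ Q)
      rw [← hQ'] at this
      exact (IH (k - 1) (by omega)).2 U hU hUa (by rw [← hQ']; omega) x ⟨hx.1.1, hx.2⟩ _ h1 h2 h3
  refine ⟨fun X g hk hX hXa hg hXg => ?_, fun U₀ hU₀ hU₀a hk x hx A hA hxA hAa => ?_⟩
  · obtain ⟨c, hc, hUQ0, hUsyl⟩ := exists_extremal_in hQY hX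
    set U := cj X c
    set Q' := Q ⊓ Subgroup.normalizer (U : Set G) with hQ'
    have hUa : adm U := hcj X c hX hc hUQ0 hXa
    have hUQ : U ≤ Q' := le_inf hUQ0 Subgroup.le_normalizer
    have hn : ∀ n ∈ Y ⊓ Subgroup.normalizer (U : Set G), Φ (U : Set G) n := by
      intro n hn
      by_cases hY : Y ≤ Subgroup.normalizer (U : Set G)
      · exact hnorm U hUQ0 hUa hY n hn.1
      refine hloc U hUQ0 hUa hY Q' hQ' hUsyl (inner U hUQ0 hUa (Nat.card X) hk ?_) n hn U hUQ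
        (lcj_subset_coe.2 ((cj_eq_self hn.2).le.trans hUQ))
      refine or_iff_not_imp_left.2 fun hQS' => ?_
      refine lt_of_eq_of_lt (card_cj X c).symm (hlt_of_lt ?_)
      refine SylIn.normalizer_growth (p := p) hUQ0 (fun h => hQS' ?_) hQY.isPGroup
      rw [show U = Q from h, inf_eq_left.2 Subgroup.le_normalizer]
    by_cases hXQ : X = Q
    · have hUX : U = X :=
        Subgroup.eq_of_le_of_card_ge (hXQ.symm ▸ hUQ0) (card_cj X c).ge
      exact hUX ▸ hn g ⟨hg, hUX ▸ mem_normalizer_of_cj_le (hXQ ▸ hXg)⟩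
    have key : ∀ X' : Subgroup G, Nat.card X' = Nat.card X → X' ≤ Q → X' ≠ Q → adm X' → ∀ e ∈ Y, cj X' e = U →
        ∃ a ∈ Y, Φ (X' : Set G) a ∧ cj X' a = U := by
      intro X' hX' hX'Q hne hX'a e he0 he
      have h1 : cj (Q ⊓ Subgroup.normalizer (X' : Set G)) e ≤ Y ⊓ Subgroup.normalizer (U : Set G) := by
        refine le_inf ((cj_mono (inf_le_left.trans hQY.le) e).trans (cj_eq_self_of_mem he0).le) ?_
        rw [← he, ← cj_normalizer]; exact cj_mono inf_le_right e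
      obtain ⟨m, hm, hm'⟩ := hUsyl.conj_le (isPGroup_cj hQY.isPGroup.to_inf_left e) h1
      rw [cj_cj] at hm'
      have hle : X' ≤ Q ⊓ Subgroup.normalizer (X' : Set G) := le_inf hX'Q Subgroup.le_normalizer
      refine ⟨m * e, mul_mem hm.1 he0, hΦ.mono hle (fun _ h => hQS h.1)
        (bigA (Q ⊓ Subgroup.normalizer (X' : Set G)) (m * e) X hk ?_ inf_le_left
          (hup X' _ hle inf_le_left hX'a) (mul_mem hm.1 he0) (hm'.trans inf_le_left)), ?_⟩
      · rw [← hX']; exact hlt_of_lt (SylIn.normalizer_growth (p := p) hX'Q hne hQY.isPGroup)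
      · rw [← cj_cj, he, cj_eq_self hm.2]
    have hgne : cj X g ≠ Q := fun h => hXQ
      (Subgroup.eq_of_le_of_card_ge hX (by rw [← h, card_cj]))
    obtain ⟨a, ha0, ha, haU⟩ := key X rfl hX hXQ hXa c hc rfl
    obtain ⟨b, hb0, hb, hbU⟩ := key (cj X g) (card_cj _ _) hXg hgne (hcj X g hX hg hXg hXa) (c * g⁻¹)
      (mul_mem hc (inv_mem hg)) (by rw [cj_cj]; simp [U])
    have hnN : b * g * a⁻¹ ∈ Y ⊓ Subgroup.normalizer (U : Set G) := by
      refine Subgroup.mem_inf.2 ⟨mul_mem (mul_mem hb0 hg) (inv_mem ha0), mem_normalizer_iff_cj.2 ?_⟩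
      rw [← cj_cj, ← cj_cj]
      conv_lhs => rw [← haU, cj_cj_inv]
      exact hbU
    have hXS : (X : Set G) ⊆ S := fun _ h => hQS (hX h)
    have haS : lcj a (X : Set G) ⊆ S := lcj_subset_coe.2 ((haU.le.trans hUQ0).trans hQS)
    have h1 : Φ (X : Set G) (b * g * a⁻¹ * a) :=
      hΦ.mul hXS haS ha (by rw [lcj_coe, haU]; exact hn _ hnN)
    rw [inv_mul_cancel_right] at h1
    have h2 : Φ (lcj (b * g) (X : Set G)) b⁻¹ := by
      rw [← lcj_lcj]
      refine hΦ.inv (lcj_subset_coe.2 (hXg.trans hQS)) ?_ (by rw [lcj_coe]; exact hb)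
      rw [lcj_lcj, lcj_subset_coe, ← cj_cj, hbU]
      exact hUQ0.trans hQS
    have h3 := hΦ.mul hXS (by rw [lcj_subset_coe, ← cj_cj, hbU]; exact hUQ0.trans hQS) h1 h2
    rwa [inv_mul_cancel_left] at h3
  · set R := Q ⊓ Subgroup.normalizer (U₀ : Set G) with hR
    by_cases hRS : R = Q
    · exact hbase x (hRS ▸ hx) A (hRS ▸ hA) (hRS ▸ hxA) hAa
    obtain ⟨hVa, hVn⟩ := hgood U₀ hU₀ hU₀a
    set V := W R with hV
    have hVR : V ≤ R := hWle R
    obtain ⟨c, hc, hUQ0, hUsyl⟩ := exists_extremal_in hQY (hVR.trans inf_le_left)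
    set U := cj V c
    set Q' := Q ⊓ Subgroup.normalizer (U : Set G) with hQ'
    have hUa : adm U := hcj V c (hVR.trans inf_le_left) hc hUQ0 hVa
    have hUn : ¬ Y ≤ Subgroup.normalizer (U : Set G) := fun h => hVn (by
      have h' := cj_mono h c⁻¹
      rw [cj_normalizer, cj_cj_inv, cj_eq_self_of_mem (inv_mem hc)] at h'
      exact h')
    set N' := Q ⊓ Subgroup.normalizer (V : Set G)
    have hRN : R < N' := lt_of_lt_of_le (SylIn.normalizer_growth (p := p) inf_le_left hRS hQY.isPGroup)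
      (inf_le_inf_left _ (hWn R))
    have h1 : cj N' c ≤ Y ⊓ Subgroup.normalizer (U : Set G) := by
      refine le_inf ((cj_mono (inf_le_left.trans hQY.le) c).trans (cj_eq_self_of_mem hc).le) ?_
      rw [← cj_normalizer]; exact cj_mono inf_le_right c
    obtain ⟨m, hm, hm'⟩ := hUsyl.conj_le (isPGroup_cj hQY.isPGroup.to_inf_left c) h1
    rw [cj_cj] at hm'
    set e := m * c
    have he : e ∈ Y := mul_mem hm.1 hc
    have heU : cj V e = U := by rw [← cj_cj, cj_eq_self hm.2]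
    have hN'a : adm N' := hup V N' (hVR.trans hRN.le) inf_le_left hVa
    have heN : Φ (N' : Set G) e :=
      bigA N' e R hk (hlt_of_lt hRN) inf_le_left hN'a he (hm'.trans inf_le_left)
    have hmove : ∀ B : Set G, B ⊆ R → lcj e B ⊆ Q' := fun B hB =>
      (Set.image_mono (hB.trans hRN.le)).trans (lcj_subset_coe.2 hm')
    have hx' : e * x * e⁻¹ ∈ Y ⊓ Subgroup.normalizer (U : Set G) := by
      refine Subgroup.mem_inf.2 ⟨mul_mem (mul_mem he hx.1) (inv_mem he), ?_⟩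
      rw [← heU, ← cj_normalizer]; exact conj_mem_cj hx.2
    have hNQ : Nat.card R < Nat.card Q' :=
      (hlt_of_lt hRN).trans_le ((card_cj N' e).symm.le.trans (Subgroup.card_le_of_le hm'))
    have hlhs : lcj (e * x * e⁻¹) (lcj e A) = lcj e (lcj x A) := by
      rw [lcj_lcj, lcj_lcj, inv_mul_cancel_right]
    have hmid : Φ (lcj e A) (e * x * e⁻¹) :=
      hloc U hUQ0 hUa hUn Q' hQ' hUsyl (inner U hUQ0 hUa (Nat.card R) hk (Or.inr hNQ))
        _ hx' _ (hmove A hA) (hlhs ▸ hmove _ hxA)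
    have hQ'S : (Q' : Set G) ⊆ S := fun _ h => hQS h.1
    have hN'S : (N' : Set G) ⊆ S := fun _ h => hQS h.1
    have hAS : A ⊆ S := hA.trans fun _ h => hQS h.1
    have hxAS : lcj x A ⊆ S := hxA.trans fun _ h => hQS h.1
    have hfirst : Φ A e := hΦ.mono (hA.trans hRN.le) hN'S heN
    have hlast : Φ (lcj e (lcj x A)) e⁻¹ := hΦ.inv hxAS ((hmove _ hxA).trans hQ'S)
      (hΦ.mono (hxA.trans hRN.le) hN'S heN)
    have h4 := hΦ.mul hAS ((hmove A hA).trans hQ'S) hfirst hmid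
    rw [inv_mul_cancel_right] at h4
    have h5 := hΦ.mul hAS (by rw [← lcj_lcj]; exact (hmove _ hxA).trans hQ'S) h4
      (by rw [← lcj_lcj]; exact hlast)
    rwa [inv_mul_cancel_left] at h5

/-- Fusion of a factorized subgroup. -/
theorem rel_of_factorization {Φ : Set G → G → Prop} (hΦ : FusPred S Φ) (hQY : SylIn p Q Y) (hQS : Q ≤ S)
    {L M : Subgroup G} (hLY : L ≤ Y) (hQL : Q ≤ L) (hQM : Q ≤ M)
    (hL : ∀ x ∈ L, ∀ A : Set G, A ⊆ Q → lcj x A ⊆ Q → Φ A x)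
    (hM : ∀ x ∈ M, ∀ A : Set G, A ⊆ Q → lcj x A ⊆ Q → Φ A x)
    {A : Set G} {g : G} (hA : A ⊆ Q) (hgA : lcj g A ⊆ Q) (hg : ∃ l ∈ L, ∃ m ∈ M, g = l * m) : Φ A g := by
  obtain ⟨l, hl, m, hm, rfl⟩ := hg
  have hmA : lcj m A ⊆ (M ⊓ L : Subgroup G) := by
    rintro _ ⟨a, ha, rfl⟩
    refine Subgroup.mem_inf.2 ⟨mul_mem (mul_mem hm (hQM (hA ha))) (inv_mem hm), ?_⟩
    have := mul_mem (mul_mem (inv_mem hl) (hQL (hgA ⟨a, ha, rfl⟩))) hl
    convert this using 1
    group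
  have hP : IsPGroup p (cj (Subgroup.closure A) m) :=
    isPGroup_cj (hQY.isPGroup.to_le ((Subgroup.closure_le Q).2 hA)) m
  obtain ⟨k, hk, hkS⟩ := (hQY.mono (le_inf hQM hQL) (inf_le_right.trans hLY)).conj_le hP
    (lcj_subset_iff_closure.1 hmA)
  rw [cj_cj, ← lcj_subset_iff_closure] at hkS
  have h1 : lcj (l * k⁻¹) (lcj (k * m) A) ⊆ Q := by
    rw [lcj_lcj, show l * k⁻¹ * (k * m) = l * m by group]; exact hgA
  have := hΦ.mul (hA.trans fun _ h => hQS h) (hkS.trans fun _ h => hQS h) (hM _ (mul_mem hk.1 hm) A hA hkS)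
    (hL _ (mul_mem hl (inv_mem hk.2)) _ hkS h1)
  rwa [show l * k⁻¹ * (k * m) = l * m by group] at this

end Cfsg.Agent.Solv.ZJFail
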