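import Cfsg.Agent.Lib.Solv.ZJFail.Pair
import Cfsg.Agent.Lib.Solv.ZJFail.Family
import Cfsg.Agent.Lib.Solv.ZJFail.RelFusion

/-!
# Fusion inside a subgroup when no counterexample section exists
-/

set_option autoImplicit false
set_option linter.style.haveILetI false

open scoped commutatorElement

namespace Cfsg.Agent.Solv.ZJFail

open Cfsg.Agent.Fusion

universe u

variable {G : Type u} [Group G]

/-- The conclusion about a normaliser and the abelian subgroup it normalises. -/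
def Concl (p : ℕ) [Fact p.Prime] (H Z : Subgroup G) : Prop :=
  Cfsg.Involves ↥(Cfsg.fOver (ZMod p)) ↥H ∧ ∃ C : Subgroup G, C ≤ Z ∧ Nat.card C = p ∧
    (H ⊓ Subgroup.centralizer (C : Set G)).relIndex (H ⊓ Subgroup.normalizer (C : Set G)) = p - 1

/-- The map induced on `A` by `g` is induced by an element of `H`. -/
def Fix (H : Subgroup G) (A : Set G) (g : G) : Prop := ∃ h ∈ H, ∀ a ∈ A, h * a * h⁻¹ = g * a * g⁻¹

theorem fusPred_fix (S H : Subgroup G) : FusPred S (Fix H) where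
  one _ := ⟨1, one_mem _, fun a _ => rfl⟩
  mono hAB _ := fun ⟨h, hh, e⟩ => ⟨h, hh, fun a ha => e a (hAB ha)⟩
  congr := fun ⟨h, hh, e⟩ e' => ⟨h, hh, fun a ha => (e a ha).trans (e' a ha).symm⟩
  mul := by
    rintro A g k _ _ ⟨h, hh, e⟩ ⟨h', hh', e'⟩
    refine ⟨h' * h, mul_mem hh' hh, fun a ha => ?_⟩
    calc h' * h * a * (h' * h)⁻¹ = h' * (h * a * h⁻¹) * h'⁻¹ := by group
      _ = k * (g * a * g⁻¹) * k⁻¹ := by rw [e a ha]; exact e' _ ⟨a, ha, rfl⟩
      _ = _ := by group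
  inv := by
    rintro A g _ _ ⟨h, hh, e⟩
    refine ⟨h⁻¹, inv_mem hh, ?_⟩
    rintro _ ⟨a, ha, rfl⟩
    calc h⁻¹ * (g * a * g⁻¹) * h⁻¹⁻¹ = h⁻¹ * (h * a * h⁻¹) * h⁻¹⁻¹ := by rw [e a ha]
      _ = g⁻¹ * (g * a * g⁻¹) * g⁻¹⁻¹ := by group

/-- The elements commuting with `s` modulo `N`. -/
def cenMod (N : Subgroup G) [N.Normal] (s : Set G) : Subgroup G :=
  (Subgroup.centralizer (QuotientGroup.mk' N '' s)).comap (QuotientGroup.mk' N)

theorem mem_cenMod {N : Subgroup G} [N.Normal] {s : Set G} {x : G} :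
    x ∈ cenMod N s ↔ ∀ v ∈ s, ⁅x, v⁆ ∈ N := by
  rw [cenMod, Subgroup.mem_comap, Subgroup.mem_centralizer_iff, Set.forall_mem_image]
  refine forall₂_congr fun v _ => ?_
  rw [← QuotientGroup.eq_one_iff]
  show _ ↔ QuotientGroup.mk' N ⁅x, v⁆ = 1
  rw [map_commutatorElement, commutatorElement_eq_one_iff_mul_comm, eq_comm]

theorem comm_swap_mem {N : Subgroup G} {x v : G} (h : ⁅x, v⁆ ∈ N) : ⁅v, x⁆ ∈ N := by
  rw [← commutatorElement_inv]; exact inv_mem h

theorem cenMod_closure {N : Subgroup G} [N.Normal] {s : Set G} {x : G} (h : ∀ v ∈ s, ⁅x, v⁆ ∈ N) :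
    ∀ v ∈ Subgroup.closure s, ⁅x, v⁆ ∈ N := by
  have h1 : Subgroup.closure s ≤ cenMod N ({x} : Set G) := (Subgroup.closure_le _).2 fun v hv =>
    mem_cenMod.2 fun w hw => by rw [Set.mem_singleton_iff.1 hw]; exact comm_swap_mem (h v hv)
  exact fun v hv => comm_swap_mem (mem_cenMod.1 (h1 hv) x rfl)

theorem normalizer_inf_le [Finite G] (A B : Subgroup G) :
    Subgroup.normalizer (A : Set G) ⊓ Subgroup.normalizer (B : Set G) ≤
      Subgroup.normalizer ((A ⊓ B : Subgroup G) : Set G) := fun g hg => by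
  refine mem_normalizer_of_cj_le ?_
  rw [cj_inf, cj_eq_self hg.1, cj_eq_self hg.2]

theorem normalizer_le_cenMod [Finite G] {N B : Subgroup G} [N.Normal] :
    Subgroup.normalizer (B : Set G) ≤ Subgroup.normalizer (cenMod N (B : Set G) : Set G) := by
  intro y hy
  refine mem_normalizer_of_cj_le ?_
  rintro _ ⟨x, hx, rfl⟩
  show y * x * y⁻¹ ∈ _
  refine mem_cenMod.2 fun v hv => ?_
  have h1 : y⁻¹ * v * y ∈ B := by
    have := (Subgroup.mem_normalizer_iff.1 (inv_mem hy) v).1 hv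
    rwa [inv_inv] at this
  have h2 := (‹N.Normal›).conj_mem _ (mem_cenMod.1 hx _ h1) y
  rwa [← comm_conj, show y * (y⁻¹ * v * y) * y⁻¹ = v by group] at h2

variable [Finite G] {p : ℕ} [hp : Fact p.Prime]

/-- A subgroup with `p`-group quotient and a Sylow subgroup generate. -/
theorem sup_sylIn_eq {K L R : Subgroup G} (hK : K ≤ L) (hLK : L ≤ Subgroup.normalizer (K : Set G))
    (hR : SylIn p R L) (h : ∀ g ∈ L, ∃ e : ℕ, g ^ p ^ e ∈ K) : K ⊔ R = L := by
  haveI hn : (K.subgroupOf L).Normal := Subgroup.normal_subgroupOf_of_le_normalizer hLK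
  have hq : IsPGroup p (↥L ⧸ K.subgroupOf L) := fun q => by
    obtain ⟨g, rfl⟩ := QuotientGroup.mk'_surjective _ q
    obtain ⟨e, he⟩ := h g g.2
    refine ⟨e, ?_⟩
    rw [← map_pow, QuotientGroup.mk'_apply, QuotientGroup.eq_one_iff, Subgroup.mem_subgroupOf]
    simpa using he
  obtain ⟨n, hn'⟩ := IsPGroup.iff_card.1 hq
  refine le_antisymm (sup_le hK hR.le) (Subgroup.relIndex_eq_one.1 ?_)
  have h1 : (K ⊔ R).relIndex L ∣ p ^ n := hn' ▸ Subgroup.relIndex_dvd_of_le_left L le_sup_left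
  obtain ⟨j, -, hj⟩ := (Nat.dvd_prime_pow hp.out).1 h1
  rcases j with _ | j
  · simpa using hj
  · refine absurd ?_ hR.not_dvd
    exact (hj ▸ dvd_pow_self p (Nat.succ_ne_zero j)).trans (Subgroup.relIndex_dvd_of_le_left L le_sup_right)

/-- The standing assumptions. -/
structure Base (p : ℕ) [Fact p.Prime] (S H Z N K : Subgroup G) (z : G) : Prop where
  hSp : IsPGroup p S
  hSH : S ≤ H
  hZS : Z ≤ S
  hZc : IsMulCommutative Z
  hHZ : H ≤ Subgroup.normalizer (Z : Set G)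
  hNn : N.Normal
  hKn : K.Normal
  hKN : K ≤ N
  hNZ : N ≤ Z
  hzZ : z ∈ Z
  hSz : ∀ s ∈ S, ⁅s, z⁆ ∈ N
  hzp : z ^ p ∈ N
  hM : ∀ g : G, ⁅g, z⁆ ∈ N → ∀ A : Set G, A ⊆ S → lcj g A ⊆ S → Fix H A g
  hfail : ¬ Concl p H Z
  hcase : z ∈ pCore p G ∨ K = N

/-- Every member of largest order contains `z` and `N`. -/
def Good (K N : Subgroup G) (z : G) (Q : Subgroup G) : Prop := ∀ A ∈ Max K Q, z ∈ A ∧ N ≤ A

variable {S H Z N K : Subgroup G} {z : G}

theorem Base.good_of_eq (hb : Base p S H Z N K z) (hKN : K = N) {Q : Subgroup G} (hQS : Q ≤ S) (hzQ : z ∈ Q) :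
    Good K N z Q := by
  subst hKN
  haveI := hb.hNn
  exact fun A hA => ⟨mem_of_max hA hzQ fun a ha => comm_swap_mem (hb.hSz a (hQS (hA.1 ha))), hA.2.1.1⟩

omit [Finite G] hp in
theorem good_inherit {Q Q' A₀ : Subgroup G} (hg : Good K N z Q) (hA₀ : A₀ ∈ Max K Q) (hA₀Q : A₀ ≤ Q')
    (hQ : Q' ≤ Q) : Good K N z Q' := fun A hA => hg A (max_of_le hA hA₀ hA₀Q hQ)

/-- The fusion in `Y` inside its Sylow subgroup `Q` is realised. -/
theorem fix_local (hp2 : p ≠ 2) (hb : Base p S H Z N K z) :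
    ∀ (n : ℕ) (Y Q : Subgroup G), Nat.card Y ≤ n → SylIn p Q Y → Q ≤ S → N ≤ Q → z ∈ Q → Good K N z Q →
      (∀ x ∈ Y ⊓ Subgroup.normalizer (JMod K Q : Set G), ∀ A : Set G, A ⊆ Q → lcj x A ⊆ Q → Fix H A x) →
      ∀ g ∈ Y, ∀ A : Set G, A ⊆ Q → lcj g A ⊆ Q → Fix H A g := by
  intro n
  induction n using Nat.strong_induction_on with
  | _ n IH =>
  intro Y Q hcard hQY hQS hNQ hzQ hgood hinner
  haveI := hb.hNn
  haveI := hb.hKn
  have hΦ : FusPred S (Fix H) := fusPred_fix S H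
  have hlt : ∀ Y' : Subgroup G, Y' ≤ Y → Y' ≠ Y → Nat.card Y' < n := fun Y' h1 h2 => by
    refine lt_of_lt_of_le ?_ hcard
    by_contra hcon
    exact h2 (Subgroup.eq_of_le_of_card_ge h1 (by omega))
  -- proper subgroups containing the Sylow subgroup
  have hsub : ∀ Y' : Subgroup G, Y' ≤ Y → Q ≤ Y' → Y' ≠ Y → ∀ g ∈ Y', ∀ A : Set G, A ⊆ Q → lcj g A ⊆ Q →
      Fix H A g := fun Y' h1 h2 h3 =>
    IH _ (hlt Y' h1 h3) Y' Q le_rfl (hQY.mono h2 h1) hQS hNQ hzQ hgood fun x hx => hinner x ⟨h1 hx.1, hx.2⟩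
  -- normal `p`-subgroups lie in `Q`
  have hnQ : ∀ P : Subgroup G, IsPGroup p P → P ≤ Y → Y ≤ Subgroup.normalizer (P : Set G) → P ≤ Q := by
    intro P hP hPY hPn
    obtain ⟨x, hx, hxQ⟩ := hQY.conj_le hP hPY
    rwa [cj_eq_self (hPn hx)] at hxQ
  by_cases hPz : ∃ P : Subgroup G, IsPGroup p P ∧ P ≤ Y ∧ Y ≤ Subgroup.normalizer (P : Set G) ∧ z ∈ P
  swap
  · push Not at hPz
    have hKN : K = N := hb.hcase.resolve_left fun h =>
      hPz (pCore p G ⊓ Y) ((isPGroup_pCore p G).to_inf_left) inf_le_right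
        (fun y hy => normalizer_inf_le _ _ ⟨by rw [Subgroup.normalizer_eq_top]; exact trivial,
          Subgroup.le_normalizer hy⟩) ⟨h, hQY.le hzQ⟩
    intro g hg A hA hgA
    set X := Subgroup.closure A ⊔ N with hX
    have hXQ : X ≤ Q := sup_le ((Subgroup.closure_le _).2 hA) hNQ
    have hgX : cj X g ≤ Q := by
      rw [hX, cj_sup, cj_of_normal N]
      exact sup_le (lcj_subset_iff_closure.1 hgA) hNQ
    refine hΦ.mono (fun a ha => Subgroup.mem_sup_left (Subgroup.subset_closure ha)) (fun a ha => hQS (hXQ ha)) ?_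
    refine rel_local_to_global hΦ hQY hQS (fun X => N ≤ X) (fun X X' h _ h' => h'.trans h)
      (fun X y _ _ _ h => by rw [← cj_of_normal N y]; exact cj_mono h y) (JMod K) jMod_le normalizer_le_jMod
      ?_ (fun x hx A hA hxA _ => hinner x hx A hA hxA) ?_ ?_ hXQ le_sup_right hg hgX
    · intro U hU hNU
      set R := Q ⊓ Subgroup.normalizer (U : Set G)
      have hNR : N ≤ R := le_inf hNQ (hNU.trans Subgroup.le_normalizer)
      have hzR : z ∈ R := Subgroup.mem_inf.2 ⟨hzQ, mem_normalizer_of_cj_le (by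
        rintro _ ⟨u, hu, rfl⟩
        show z * u * z⁻¹ ∈ U
        rw [conj_eq_comm_mul]
        exact mul_mem (hNU (comm_swap_mem (hb.hSz u (hQS (hU hu))))) hu)⟩
      obtain ⟨A', hA'⟩ := max_nonempty (K := K) (hKN ▸ hNR)
      obtain ⟨hzA, hNA⟩ := hb.good_of_eq hKN (inf_le_left.trans hQS) hzR A' hA'
      exact ⟨hNA.trans (le_sSup hA'), fun hn => hPz _ (hQY.isPGroup.to_le ((jMod_le R).trans inf_le_left))
        ((jMod_le R).trans (inf_le_left.trans hQY.le)) hn ((le_sSup hA' : A' ≤ JMod K R) hzA)⟩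
    · -- normal domains
      intro U hU hNU hUn m hm
      let K1 : Subgroup G := Y ⊓ cenMod N (U : Set G) ⊓ Subgroup.centralizer (N : Set G)
      have hK1Y : K1 ≤ Y := inf_le_left.trans inf_le_left
      have hK1n : Y ≤ Subgroup.normalizer (K1 : Set G) := fun y hy => by
        refine normalizer_inf_le _ _ ⟨normalizer_inf_le _ _ ⟨Subgroup.le_normalizer hy,
          normalizer_le_cenMod (hUn hy)⟩, ?_⟩
        refine mem_normalizer_of_cj_le ?_
        rw [cj_centralizer, cj_of_normal N]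
      have hzK1 : z ∈ K1 := by
        refine Subgroup.mem_inf.2 ⟨Subgroup.mem_inf.2 ⟨hQY.le hzQ,
          mem_cenMod.2 fun u hu => comm_swap_mem (hb.hSz u (hQS (hU hu)))⟩, ?_⟩
        exact Subgroup.mem_centralizer_iff.2 fun v hv =>
          congrArg Subtype.val (hb.hZc.1.1 ⟨v, hb.hNZ hv⟩ ⟨z, hb.hzZ⟩)
      set T := Q ⊓ K1
      have hT : SylIn p T K1 := hQY.inf_normal hK1Y hK1n
      obtain ⟨k, hk, hkn⟩ := frattini_conj hT hK1n hm
      have hY' : Y ⊓ Subgroup.normalizer (T : Set G) ≠ Y := fun h =>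
        hPz T (hT.isPGroup) (inf_le_right.trans hK1Y) (inf_eq_left.1 h) ⟨hzQ, hzK1⟩
      have hQY' : Q ≤ Y ⊓ Subgroup.normalizer (T : Set G) := le_inf hQY.le fun q hq =>
        normalizer_inf_le _ _ ⟨Subgroup.le_normalizer hq, hK1n (hQY.le hq)⟩
      have hcjU : ∀ y ∈ Y, lcj y (U : Set G) ⊆ U := fun y hy => lcj_subset_coe.2 (cj_eq_self (hUn hy)).le
      have hUS : (U : Set G) ⊆ S := fun u hu => hQS (hU hu)
      have h1 : Fix H (U : Set G) (k * m) :=
        hsub _ inf_le_left hQY' hY' _ ⟨mul_mem (hK1Y hk) hm, hkn⟩ _ (fun u hu => hU hu)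
          ((hcjU _ (mul_mem (hK1Y hk) hm)).trans fun u hu => hU hu)
      have h2 : ∀ c ∈ K1, Fix H (U : Set G) c := by
        set C := K1 ⊓ Subgroup.centralizer (U : Set G)
        have hCn : K1 ≤ Subgroup.normalizer (C : Set G) := fun c hc => by
          refine normalizer_inf_le _ _ ⟨Subgroup.le_normalizer hc, mem_normalizer_of_cj_le ?_⟩
          rw [cj_centralizer, cj_eq_self (hUn (hK1Y hc))]
        have hgen : C ⊔ T = K1 := by
          refine sup_sylIn_eq inf_le_left hCn hT fun c hc => ?_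
          obtain ⟨e, he⟩ := exists_pPrime_pow (p := p) c
          refine ⟨e, Subgroup.mem_inf.2 ⟨pow_mem hc _, Subgroup.mem_centralizer_iff.2 fun u hu => ?_⟩⟩
          set d := c ^ p ^ e
          have hd : d ∈ K1 := pow_mem hc _
          have hδ : ⁅d, u⁆ ∈ N := mem_cenMod.1 (Subgroup.mem_inf.1 (Subgroup.mem_inf.1 hd).1).2 u hu
          have hpow : ∀ j : ℕ, ⁅d ^ j, u⁆ = ⁅d, u⁆ ^ j := fun j => by
            induction j with
            | zero => simp
            | succ j ih =>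
              rw [pow_succ', comm_mul_left, ih, pow_succ]
              congr 1
              rw [mul_inv_eq_iff_eq_mul]
              exact (Subgroup.mem_centralizer_iff.1 (Subgroup.mem_inf.1 hd).2 _ (pow_mem hδ j)).symm
          obtain ⟨i, hi⟩ := hb.hSp ⟨⁅d, u⁆, hb.hZS (hb.hNZ hδ)⟩
          have h3 := hpow (orderOf d)
          rw [pow_orderOf_eq_one, commutatorElement_one_left] at h3
          have h4 : ⁅d, u⁆ = 1 := eq_one_of_pow_eq_one_coprime (he.pow_right i) h3.symm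
            (congrArg Subtype.val hi)
          exact (commutatorElement_eq_one_iff_mul_comm.1 h4).symm
        intro c hc
        rw [← hgen, sup_comm, ← SetLike.mem_coe,
          Subgroup.coe_mul_of_left_le_normalizer_right T C (inf_le_right.trans hCn)] at hc
        obtain ⟨t, ht, c, hc, rfl⟩ := hc
        refine ⟨t, hb.hSH (hQS ht.1), fun u hu => ?_⟩
        have e : c * u * c⁻¹ = u :=
          mul_inv_eq_iff_eq_mul.2 (Subgroup.mem_centralizer_iff.1 hc.2 u hu).symm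
        rw [show t * c * u * (t * c)⁻¹ = t * (c * u * c⁻¹) * t⁻¹ by group, e]
      have hlU : lcj (k * m) (U : Set G) = (U : Set G) := by
        rw [lcj_coe, cj_eq_self (hUn (mul_mem (hK1Y hk) hm))]
      have h3 := hΦ.mul hUS ((hcjU _ (mul_mem (hK1Y hk) hm)).trans hUS) h1
        (hlU.symm ▸ h2 k⁻¹ (inv_mem hk))
      rwa [inv_mul_cancel_left] at h3
    · intro U hU hNU hUn Q' hQ' hsyl hin m hm
      have hzQ' : z ∈ Q' := by
        rw [hQ']
        refine Subgroup.mem_inf.2 ⟨hzQ, mem_normalizer_of_cj_le ?_⟩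
        rintro _ ⟨u, hu, rfl⟩
        show z * u * z⁻¹ ∈ U
        rw [conj_eq_comm_mul]
        exact mul_mem (hNU (comm_swap_mem (hb.hSz u (hQS (hU hu))))) hu
      have hQ'Q : Q' ≤ Q := hQ'.le.trans inf_le_left
      exact IH _ (hlt _ inf_le_left fun h => hUn (inf_eq_left.1 h)) _ Q' le_rfl hsyl (hQ'Q.trans hQS)
        (hQ' ▸ le_inf hNQ (hNU.trans Subgroup.le_normalizer)) hzQ' (hb.good_of_eq hKN (hQ'Q.trans hQS) hzQ')
        hin m hm
  -- `z` lies in a normal `p`-subgroup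
  obtain ⟨P, hPp, hPY, hPn, hzP⟩ := hPz
  have hPQ : P ≤ Q := hnQ P hPp hPY hPn
  set B := Subgroup.closure {w | ∃ y ∈ Y, w = y * z * y⁻¹} ⊔ N with hB
  have hzc : ∀ y ∈ Y, y * z * y⁻¹ ∈ B := fun y hy =>
    Subgroup.mem_sup_left (Subgroup.subset_closure ⟨y, hy, rfl⟩)
  have hBQ : B ≤ Q := sup_le ((Subgroup.closure_le _).2 (by
    rintro _ ⟨y, hy, rfl⟩
    exact hPQ ((Subgroup.mem_normalizer_iff.1 (hPn hy) z).1 hzP))) hNQ
  have hBY : Y ≤ Subgroup.normalizer (B : Set G) := fun y hy => by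
    refine mem_normalizer_of_cj_le ?_
    rw [hB, cj_sup, cj_of_normal N]
    refine sup_le_sup_right ?_ _
    rw [cj_le_iff, Subgroup.closure_le]
    rintro _ ⟨y', hy', rfl⟩
    refine mem_cj.2 (Subgroup.subset_closure ⟨y * y', mul_mem hy hy', ?_⟩)
    group
  have hzB : z ∈ B := by simpa using hzc 1 (one_mem _)
  have hNB : N ≤ B := le_sup_right
  -- elements of normal `p`-subgroups act trivially modulo `N`
  have hnormC : ∀ d : G, (∀ y ∈ Y, y⁻¹ * d * y ∈ Q) → ∀ u ∈ B, ⁅d, u⁆ ∈ N := by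
    intro d hd
    have h : ({w | ∃ y ∈ Y, w = y * z * y⁻¹} ∪ (N : Set G)) ⊆ {v | ⁅d, v⁆ ∈ N} := by
      rintro v (⟨y, hy, rfl⟩ | hv)
      · have h := hb.hNn.conj_mem _ (hb.hSz _ (hQS (hd y hy))) y
        rwa [← comm_conj, show y * (y⁻¹ * d * y) * y⁻¹ = d by group] at h
      · exact mul_mem (hb.hNn.conj_mem _ hv d) (inv_mem hv)
    intro u hu
    refine cenMod_closure (fun v hv => h hv) u ?_
    rwa [Subgroup.closure_union, Subgroup.closure_eq]
  have hOp : ∀ P' : Subgroup G, IsPGroup p P' → P' ≤ Y → Y ≤ Subgroup.normalizer (P' : Set G) →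
      ∀ d ∈ P', ∀ u ∈ B, ⁅d, u⁆ ∈ N := fun P' h1 h2 h3 d hd => hnormC d fun y hy => by
    have := hnQ P' h1 h2 h3 ((Subgroup.mem_normalizer_iff.1 (inv_mem (h3 hy)) d).1 hd)
    rwa [inv_inv] at this
  have hBB : ∀ u ∈ B, ∀ v ∈ B, ⁅u, v⁆ ∈ N :=
    hOp B (hQY.isPGroup.to_le hBQ) (hBQ.trans hQY.le) hBY
  have hBp : ∀ u ∈ B, u ^ p ∈ N := by
    intro u hu
    rw [hB, ← Subgroup.closure_eq N, ← Subgroup.closure_union] at hu
    have hgB : Subgroup.closure ({w | ∃ y ∈ Y, w = y * z * y⁻¹} ∪ (N : Set G)) ≤ B := by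
      rw [Subgroup.closure_union, Subgroup.closure_eq]
    induction hu using Subgroup.closure_induction with
    | mem u hu =>
      rcases hu with ⟨y, hy, rfl⟩ | hu
      · rw [conj_pow]; exact hb.hNn.conj_mem _ hb.hzp y
      · exact pow_mem hu p
    | one => rw [one_pow]; exact one_mem _
    | mul u v hu hv iu iv =>
      have hc : Commute (QuotientGroup.mk' N u) (QuotientGroup.mk' N v) := by
        rw [commute_iff_eq, ← commutatorElement_eq_one_iff_mul_comm, ← map_commutatorElement]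
        exact (QuotientGroup.eq_one_iff _).2 (hBB u (hgB hu) v (hgB hv))
      rw [← QuotientGroup.eq_one_iff] at iu iv ⊢
      show QuotientGroup.mk' N ((u * v) ^ p) = 1
      rw [map_pow, map_mul, hc.mul_pow, ← map_pow, ← map_pow]
      show (↑(u ^ p) : G ⧸ N) * ↑(v ^ p) = 1
      rw [iu, iv, one_mul]
    | inv u _ iu => rw [inv_pow]; exact inv_mem iu
  set C := Y ⊓ cenMod N (B : Set G) with hC
  have hCn : Y ≤ Subgroup.normalizer (C : Set G) := fun y hy =>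
    normalizer_inf_le _ _ ⟨Subgroup.le_normalizer hy, normalizer_le_cenMod (hBY hy)⟩
  set T := Q ⊓ C with hTdef
  have hT : SylIn p T C := hQY.inf_normal inf_le_left hCn
  intro g hg A hA hgA
  by_cases hrich : ∃ A' ∈ Max K Q, ¬ A' ≤ C
  swap
  · push Not at hrich
    have hJ : JMod K T = JMod K Q := by
      refine le_antisymm (sSup_le fun A' hA' => ?_) (sSup_le fun A' hA' => le_sSup ?_)
      · obtain ⟨A₁, hA₁⟩ := max_nonempty (K := K) (hb.hKN.trans hNQ)
        exact le_sSup (max_of_le hA' hA₁ (le_inf hA₁.1 (hrich A₁ hA₁)) inf_le_left)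
      · exact max_mono hA' (le_inf hA'.1 (hrich A' hA')) inf_le_left
    refine rel_of_factorization hΦ hQY hQS (L := Y ⊓ cenMod N ({z} : Set G))
      (M := Y ⊓ Subgroup.normalizer (JMod K Q : Set G)) inf_le_left
      (le_inf hQY.le fun q hq => mem_cenMod.2 fun w hw => by
        rw [Set.mem_singleton_iff.1 hw]; exact hb.hSz q (hQS hq))
      (le_inf hQY.le (Subgroup.le_normalizer.trans (normalizer_le_jMod Q)))
      (fun x hx A hA hxA => hb.hM x (mem_cenMod.1 hx.2 z rfl) A (hA.trans fun _ h => hQS h)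
        (hxA.trans fun _ h => hQS h))
      hinner hA hgA ?_
    obtain ⟨c, hc, hcn⟩ := frattini_conj hT hCn hg
    refine ⟨c⁻¹, Subgroup.mem_inf.2 ⟨inv_mem hc.1, mem_cenMod.2 fun w hw => ?_⟩, c * g,
      ⟨mul_mem hc.1 hg, hJ ▸ normalizer_le_jMod T hcn⟩, (inv_mul_cancel_left c g).symm⟩
    rw [Set.mem_singleton_iff.1 hw]
    exact mem_cenMod.1 (inv_mem hc.2) z hzB
  exfalso
  -- a member acting nontrivially and normalised by `B`
  obtain ⟨A₁, hA₁⟩ := hrich
  obtain ⟨A₀, ⟨hA₀, hA₀C⟩, hA₀max⟩ := Set.exists_max_image {A' : Subgroup G | A' ∈ Max K Q ∧ ¬ A' ≤ C}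
    (fun A' => Nat.card ↥(A' ⊓ B)) (Set.toFinite _) ⟨A₁, hA₁⟩
  have hA₀B : B ≤ Subgroup.normalizer (A₀ : Set G) := by
    by_contra hnot
    obtain ⟨R, hR, hlt1, hlt2⟩ := exists_replacement_mod hp2 hQY.isPGroup hBQ (hQY.le.trans hBY)
      (hb.hKN.trans hNB) hA₀ (by
        rw [Subgroup.commutator_le]
        exact fun u hu v hv => (hgood A₀ hA₀).2 (hBB u hu v hv)) hnot
    have hRC : R ≤ C := by
      by_contra hRC
      exact hlt1.ne (Subgroup.eq_of_le_of_card_ge hlt1.le (hA₀max R ⟨hR, hRC⟩))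
    have hRT : R ∈ Max K T := max_mono hR (le_inf hR.1 hRC) inf_le_left
    refine hlt2.ne (inf_eq_right.2 (sup_le ((Subgroup.closure_le _).2 ?_) (hgood R hR).2))
    rintro _ ⟨y, hy, rfl⟩
    obtain ⟨c, hc, hcn⟩ := frattini_conj hT hCn (inv_mem hy)
    set m := c * y⁻¹
    have hmR : cj R m ∈ Max K T := max_cj_inside hRT ((cj_mono hRT.1 m).trans (cj_eq_self hcn).le)
    obtain ⟨hz1, -⟩ := hgood _ (max_of_le hmR hR (le_inf hR.1 hRC) inf_le_left)
    have h1 : m⁻¹ * z * m ∈ R := mem_cj.1 hz1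
    have h2 : m⁻¹ * ⁅c, z⁆ * m ∈ R := by
      have := hb.hNn.conj_mem _ (mem_cenMod.1 hc.2 z hzB) m⁻¹
      rw [inv_inv] at this
      exact (hgood R hR).2 this
    have := mul_mem h2 h1
    rwa [show m⁻¹ * ⁅c, z⁆ * m * (m⁻¹ * z * m) = y * z * y⁻¹ by
      simp only [m, commutatorElement_def]; group] at this
  -- fusion on the domains containing such a member
  have hadm_cj : ∀ (X : Subgroup G) (y : G), X ≤ Q → y ∈ Y → cj X y ≤ Q →
      (∃ A' ∈ Max K Q, ¬ A' ≤ C ∧ A' ≤ X) → ∃ A' ∈ Max K Q, ¬ A' ≤ C ∧ A' ≤ cj X y := by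
    rintro X y - hy hXy ⟨A', hA', hA'C, hA'X⟩
    refine ⟨cj A' y, max_cj_inside hA' ((cj_mono hA'X y).trans hXy), fun h => hA'C ?_, cj_mono hA'X y⟩
    rwa [← cj_eq_self (hCn hy), cj_le_cj] at h
  have hnotn : ∀ U : Subgroup G, U ≤ Q → (∃ A' ∈ Max K Q, ¬ A' ≤ C ∧ A' ≤ U) →
      ¬ Y ≤ Subgroup.normalizer (U : Set G) := by
    rintro U hU ⟨A', hA', hA'C, hA'U⟩ hn
    exact hA'C fun a ha => Subgroup.mem_inf.2 ⟨hQY.le (hU (hA'U ha)),
      mem_cenMod.2 (hOp U (hQY.isPGroup.to_le hU) (hU.trans hQY.le) hn a (hA'U ha))⟩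
  have hR1 : ∀ (X : Subgroup G) (y : G), X ≤ Q → (∃ A' ∈ Max K Q, ¬ A' ≤ C ∧ A' ≤ X) → y ∈ Y →
      cj X y ≤ Q → Fix H (X : Set G) y := by
    intro X y hX hXa hy hyX
    refine rel_local_to_global hΦ hQY hQS (fun X => ∃ A' ∈ Max K Q, ¬ A' ≤ C ∧ A' ≤ X)
      (fun X X' h _ ⟨A', h1, h2, h3⟩ => ⟨A', h1, h2, h3.trans h⟩) hadm_cj (JMod K) jMod_le normalizer_le_jMod
      ?_ (fun x hx A hA hxA _ => hinner x hx A hA hxA) ?_ ?_ hX hXa hy hyX
    · rintro U hU ⟨A', hA', hA'C, hA'U⟩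
      have hR := max_mono hA' (le_inf hA'.1 (hA'U.trans Subgroup.le_normalizer))
        (inf_le_left : Q ⊓ Subgroup.normalizer (U : Set G) ≤ Q)
      exact ⟨⟨A', hA', hA'C, le_sSup hR⟩, hnotn _ ((jMod_le _).trans inf_le_left) ⟨A', hA', hA'C, le_sSup hR⟩⟩
    · exact fun U hU hUa hUn => absurd hUn (hnotn U hU hUa)
    · rintro U hU ⟨A', hA', -, hA'U⟩ hUn Q' hQ' hsyl hin m hm
      have hQ'Q : Q' ≤ Q := hQ'.le.trans inf_le_left
      have hA'Q' : A' ≤ Q' := hQ' ▸ le_inf hA'.1 (hA'U.trans Subgroup.le_normalizer)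
      exact IH _ (hlt _ inf_le_left fun h => hUn (inf_eq_left.1 h)) _ Q' le_rfl hsyl (hQ'Q.trans hQS)
        ((hgood A' hA').2.trans hA'Q') (hA'Q' (hgood A' hA').1) (good_inherit hgood hA' hA'Q' hQ'Q) hin m hm
  -- the configuration
  let Del : Set G :=
    {d | ∃ y ∈ Y, ∃ A' ∈ Max K Q, ¬ A' ≤ C ∧ B ≤ Subgroup.normalizer (A' : Set G) ∧ ∃ a ∈ A', d = y * a * y⁻¹}
  have cfg : Cfg p H Z N B Y Q Del (A₀ : Set G) z :=
    { hQY := hQY
      hNn := hb.hNn
      hNB := hNB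
      hBQ := hBQ
      hBH := hBQ.trans (hQS.trans hb.hSH)
      hBY := hBY
      hBB := hBB
      hBp := hBp
      hNZ := hb.hNZ
      hZp := hb.hSp.to_le hb.hZS
      hZc := hb.hZc
      hHZ := hb.hHZ
      hQZ := hQS.trans (hb.hSH.trans hb.hHZ)
      hzB := hzB
      hzZ := hb.hzZ
      hQz := fun q hq => hb.hSz q (hQS hq)
      hgen := fun X hX hall => sup_le ((Subgroup.closure_le _).2 (by
        rintro _ ⟨y, hy, rfl⟩; exact hall y hy)) hX
      hDY := by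
        rintro _ ⟨y, hy, A', hA', -, -, a, ha, rfl⟩
        exact mul_mem (mul_mem hy (hQY.le (hA'.1 ha))) (inv_mem hy)
      hDc := by
        rintro _ ⟨y', hy', A', hA', h1, h2, a, ha, rfl⟩ y hy
        exact ⟨y * y', mul_mem hy hy', A', hA', h1, h2, a, ha, by group⟩
      hDp := by
        rintro _ ⟨y, hy, A', hA', -, -, a, ha, rfl⟩
        obtain ⟨k, hk⟩ := hQY.isPGroup ⟨a, hA'.1 ha⟩
        exact ⟨k, by rw [conj_pow, show a ^ p ^ k = 1 from congrArg Subtype.val hk, mul_one, mul_inv_cancel]⟩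
      hDq := by
        rintro _ ⟨y, hy, A', hA', -, hBA, a, ha, rfl⟩ u hu
        have hu' : y⁻¹ * u * y ∈ B := by
          have := (Subgroup.mem_normalizer_iff.1 (hBY (inv_mem hy)) u).1 hu
          rwa [inv_inv] at this
        have h1 : ⁅a, y⁻¹ * u * y⁆ ∈ A' := by
          rw [commutatorElement_def,
            show a * (y⁻¹ * u * y) * a⁻¹ * (y⁻¹ * u * y)⁻¹ =
              a * ((y⁻¹ * u * y) * a⁻¹ * (y⁻¹ * u * y)⁻¹) by group]
          exact mul_mem ha ((Subgroup.mem_normalizer_iff.1 (hBA hu') _).1 (inv_mem ha))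
        have h2 := hb.hNn.conj_mem _ (hb.hKN (hA'.2.1.2 (Subgroup.commutator_mem_commutator ha h1))) y
        rwa [← comm_conj, ← comm_conj, show y * (y⁻¹ * u * y) * y⁻¹ = u by group] at h2
      hA₀ := fun a ha => ⟨⟨1, one_mem _, A₀, hA₀, hA₀C, hA₀B, a, ha, by group⟩, hA₀.1 ha⟩
      hA₀C := by
        obtain ⟨a, ha, haC⟩ := SetLike.not_le_iff_exists.1 hA₀C
        by_contra hcon
        push Not at hcon
        exact haC ⟨hQY.le (hA₀.1 ha), mem_cenMod.2 (hcon a ha)⟩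
      hOp := hOp
      hR₁ := by
        rintro U hU hBU ⟨y, hy, hyA⟩ m hm hmU
        have hle : cj A₀ y ≤ U := by rintro _ ⟨a, ha, rfl⟩; exact hyA a ha
        obtain ⟨A', h1, h2, h3⟩ := hadm_cj A₀ y hA₀.1 hy (hle.trans hU) ⟨A₀, hA₀, hA₀C, le_rfl⟩
        obtain ⟨h, hh, he⟩ := hR1 U m hU ⟨A', h1, h2, h3.trans hle⟩ hm ((cj_eq_self hmU).le.trans hU)
        exact ⟨h, hh, fun b hb' => he b (hBU hb')⟩
      hR₂ := fun Y' h1 h2 h3 y hy => hsub Y' h1 h2 h3 y hy (B : Set G) (fun b hb' => hBQ hb')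
        (lcj_subset_coe.2 ((cj_eq_self (hBY (h1 hy))).le.trans hBQ)) }
  exact hb.hfail (cfg.main hp2)

end Cfsg.Agent.Solv.ZJFail
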