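import Cfsg.Agent.Lib.Fusion.Dickson
import Cfsg.Agent.Lib.Fusion.Basic

/-!
# A torus element fixing the line of a transvection
-/

set_option autoImplicit false
set_option linter.style.haveILetI false

open Matrix

namespace Cfsg.Agent.Solv.ZJFail

open Cfsg.Agent.Fusion

variable {F : Type*} [Field F] [Finite F] {p : ℕ} [hp : Fact p.Prime] [CharP F p]

local notation "SL2" => Matrix.SpecialLinearGroup (Fin 2) F

/-- A `p`-subgroup containing the standard transvection is upper unitriangular. -/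
theorem upper_of_pGroup {P : Subgroup SL2} (hP : IsPGroup p P) (hu : Dickson.upU (1 : F) ∈ P) {r : SL2} (hr : r ∈ P) :
    r.1 1 0 = 0 ∧ r.1 0 0 = 1 := by
  have h2or : ∀ {q : SL2}, q ∈ P → Dickson.tr q = 2 := fun {q} hq => by
    obtain ⟨k, hk⟩ := hP ⟨q, hq⟩
    exact Dickson.tr_of_pow_eq_one p (j := k) (congrArg Subtype.val hk)
  haveI : Nontrivial P := ⟨⟨⟨_, hu⟩, 1, fun h => one_ne_zero (α := F) (by
    have := congrArg (fun q : P => q.1.1 0 1) h
    simpa using this)⟩⟩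
  haveI := hP.center_nontrivial
  obtain ⟨⟨z, hz⟩, hz1⟩ := exists_ne (1 : Subgroup.center P)
  have hz1' : (z : SL2) ≠ 1 := fun h => hz1 (Subtype.ext (Subtype.ext h))
  have hcomm : ∀ q : SL2, q ∈ P → (z : SL2) * q = q * (z : SL2) := fun q hq =>
    (congrArg Subtype.val (Subgroup.mem_center_iff.1 hz ⟨q, hq⟩)).symm
  have key : ∀ (q : SL2) (s : F), s ≠ 0 → q ∈ P → q * Dickson.upU s = Dickson.upU s * q →
      q.1 1 0 = 0 ∧ q.1 0 0 = 1 ∧ q.1 1 1 = 1 := by
    intro q s hs hq he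
    have e00 := congrArg (fun M : SL2 => M.1 0 0) he
    have e01 := congrArg (fun M : SL2 => M.1 0 1) he
    simp only [Dickson.mul_entry] at e00 e01
    simp at e00 e01
    have h10 : q.1 1 0 = 0 := by
      rcases e00 with h | h
      exacts [absurd h hs, h]
    have h' : s * (q.1 0 0 - q.1 1 1) = 0 := by linear_combination e01
    have heq : q.1 0 0 = q.1 1 1 := sub_eq_zero.1 ((mul_eq_zero.1 h').resolve_left hs)
    have htr := h2or hq
    rw [Dickson.tr, ← heq] at htr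
    have h2 : (2 : F) * (q.1 0 0 - 1) = 0 := by linear_combination htr
    by_cases h20 : (2 : F) = 0
    · have hd := Dickson.det_eq q
      rw [h10, ← heq] at hd
      have h3 : (q.1 0 0 - 1) * (q.1 0 0 + 1) = 0 := by linear_combination hd
      rcases mul_eq_zero.1 h3 with h | h
      · exact ⟨h10, sub_eq_zero.1 h, heq ▸ sub_eq_zero.1 h⟩
      · have : q.1 0 0 = 1 := by linear_combination h - h20
        exact ⟨h10, this, heq ▸ this⟩
    · have := sub_eq_zero.1 ((mul_eq_zero.1 h2).resolve_left h20)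
      exact ⟨h10, this, heq ▸ this⟩
  obtain ⟨z10, z00, z11⟩ := key z 1 one_ne_zero z.2 (hcomm _ hu)
  set w := (z : SL2).1 0 1
  have hzw : (z : SL2) = Dickson.upU w := Dickson.ext' z00 rfl z10 z11
  have hw : w ≠ 0 := fun h => hz1' (by rw [hzw, h, Dickson.upU_zero])
  obtain ⟨a, b, -⟩ := key r w hw hr (by rw [← hzw]; exact (hcomm r hr).symm)
  exact ⟨a, b⟩

/-- A subgroup with two transvections contains a triangular element with given eigenvalue and a non-triangular
element of order dividing four. -/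
theorem exists_torus (hp2 : p ≠ 2) (Γ : Subgroup SL2) {μ : F} (hμ : μ ≠ 0) (hu : Dickson.upU (1 : F) ∈ Γ)
    (hl : Dickson.lowL μ ∈ Γ) {c : ZMod p} (hc : c ≠ 0) :
    (∃ T ∈ Γ, T.1 1 0 = 0 ∧ T.1 0 0 = ZMod.castHom dvd_rfl F c) ∧
      ∃ W ∈ Γ, W.1 1 0 ≠ 0 ∧ W * W = Dickson.negI := by
  obtain ⟨M, hM, hcon⟩ := Dickson.exists_containsStd p hp2 Γ ⟨_, hu, _, hl,
    by rw [Dickson.upU_pow, CharP.cast_eq_zero, zero_mul, Dickson.upU_zero],
    by rw [Dickson.lowL_pow, CharP.cast_eq_zero, zero_mul, Dickson.lowL_zero],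
    fun h => hμ (by simpa [Dickson.mul_entry] using congrArg (fun M : SL2 => M.1 0 0) h)⟩
  set φ : Matrix.SpecialLinearGroup (Fin 2) (ZMod p) → SL2 := fun g => Dickson.conjEquiv M hM (Dickson.stdMap p g)
  have hu' : φ (Dickson.upU 1) ^ p = 1 := by
    simp only [φ]
    rw [← map_pow, ← map_pow, Dickson.upU_pow, CharP.cast_eq_zero, zero_mul, Dickson.upU_zero, map_one, map_one]
  have hpu : IsPGroup p (Subgroup.zpowers (Dickson.upU (1 : F))) := by
    obtain ⟨j, -, hj⟩ := (Nat.dvd_prime_pow hp.out).1 (orderOf_dvd_of_pow_eq_one (n := p ^ 1)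
      (show Dickson.upU (1 : F) ^ p ^ 1 = 1 by
        rw [pow_one, Dickson.upU_pow, CharP.cast_eq_zero, zero_mul, Dickson.upU_zero]))
    exact IsPGroup.of_card (n := j) (by rw [Nat.card_zpowers, hj])
  have hpu' : IsPGroup p (Subgroup.zpowers (φ (Dickson.upU 1))) := by
    obtain ⟨j, -, hj⟩ := (Nat.dvd_prime_pow hp.out).1 (orderOf_dvd_of_pow_eq_one (n := p ^ 1)
      (show φ (Dickson.upU 1) ^ p ^ 1 = 1 by rw [pow_one]; exact hu'))
    exact IsPGroup.of_card (n := j) (by rw [Nat.card_zpowers, hj])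
  haveI : Finite Γ := inferInstance
  obtain ⟨P, hP, huP⟩ := exists_sylIn_ge (H := Γ) hpu (Subgroup.zpowers_le.2 hu)
  obtain ⟨γ, hγ, hγP⟩ := hP.conj_le hpu' (Subgroup.zpowers_le.2 (hcon _))
  set m : Matrix (Fin 2) (Fin 2) F := γ.1 * M⁻¹ with hm
  have hMu : IsUnit M.det := isUnit_iff_ne_zero.2 hM
  have hmdet : m.det ≠ 0 := by
    rw [hm, Matrix.det_mul, γ.2, one_mul, Matrix.det_nonsing_inv, Ring.inverse_eq_inv']
    exact inv_ne_zero hM
  have hinter : ∀ g, (γ * φ g * γ⁻¹).1 * m = m * (Dickson.stdMap p g : SL2).1 := by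
    intro g
    show γ.1 * (M⁻¹ * (Dickson.stdMap p g : SL2).1 * M) * (γ⁻¹).1 * (γ.1 * M⁻¹) = _
    have e : (γ⁻¹).1 * γ.1 = 1 := congrArg Subtype.val (inv_mul_cancel γ)
    calc _ = γ.1 * (M⁻¹ * (Dickson.stdMap p g : SL2).1) * (M * ((γ⁻¹).1 * γ.1) * M⁻¹) := by
          simp only [mul_assoc]
      _ = γ.1 * M⁻¹ * (Dickson.stdMap p g : SL2).1 := by
          rw [e, mul_one, Matrix.mul_nonsing_inv _ hMu, mul_one, mul_assoc]
  have hs : ∀ g i j, (Dickson.stdMap p g : SL2).1 i j = ZMod.castHom dvd_rfl F (g.1 i j) := fun _ _ _ => rfl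
  have m10 : m 1 0 = 0 := by
    obtain ⟨h10, h00⟩ := upper_of_pGroup hP.isPGroup (huP (Subgroup.mem_zpowers _))
      (hγP (conj_mem_cj (Subgroup.mem_zpowers (φ (Dickson.upU 1)))))
    have h11 : (γ * φ (Dickson.upU 1) * γ⁻¹).1 1 1 = 1 := by
      have hd := Dickson.det_eq (γ * φ (Dickson.upU 1) * γ⁻¹)
      rw [h10, h00] at hd
      linear_combination hd
    have h := congrFun (congrFun (hinter (Dickson.upU 1)) 1) 1
    simp only [Matrix.mul_apply, Fin.sum_univ_two, hs, h10, h11, zero_mul, zero_add, one_mul] at h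
    simp at h
    exact h
  have m00 : m 0 0 ≠ 0 := fun h => hmdet (by rw [Matrix.det_fin_two, h, m10]; ring)
  have m11 : m 1 1 ≠ 0 := fun h => hmdet (by rw [Matrix.det_fin_two, h, m10]; ring)
  let dc : Matrix.SpecialLinearGroup (Fin 2) (ZMod p) := ⟨!![c, 0; 0, c⁻¹], by simp [Matrix.det_fin_two, hc]⟩
  let w : Matrix.SpecialLinearGroup (Fin 2) (ZMod p) := ⟨!![0, 1; -1, 0], by simp [Matrix.det_fin_two]⟩
  refine ⟨⟨γ * φ dc * γ⁻¹, mul_mem (mul_mem hγ (hcon _)) (inv_mem hγ), ?_⟩,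
    γ * φ w * γ⁻¹, mul_mem (mul_mem hγ (hcon _)) (inv_mem hγ), ?_, ?_⟩
  · have h0 := congrFun (congrFun (hinter dc) 1) 0
    have h1 := congrFun (congrFun (hinter dc) 0) 0
    simp only [Matrix.mul_apply, Fin.sum_univ_two, hs, m10, mul_zero, add_zero] at h0 h1
    simp [dc, m10] at h0 h1
    have e10 := h0.resolve_right m00
    refine ⟨e10, mul_right_cancel₀ m00 ?_⟩
    rw [mul_comm (ZMod.castHom dvd_rfl F c)]
    simpa using h1
  · intro h10
    have h0 := congrFun (congrFun (hinter w) 1) 0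
    simp only [Matrix.mul_apply, Fin.sum_univ_two, hs, h10, m10, mul_zero, zero_mul, add_zero] at h0
    simp [w, m10] at h0
    exact m11 h0
  · have hw : w * w = (Dickson.negI : Matrix.SpecialLinearGroup (Fin 2) (ZMod p)) := by
      apply Dickson.ext' <;> rw [Dickson.mul_entry] <;> simp [w, Dickson.negI]
    have hneg : φ (Dickson.negI) = (Dickson.negI : SL2) := by
      have h1 : (Dickson.stdMap p (Dickson.negI) : SL2) = Dickson.negI := by
        apply Dickson.ext' <;> rw [hs] <;> simp [Dickson.negI]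
      refine Subtype.ext ?_
      show M⁻¹ * (Dickson.stdMap p (Dickson.negI) : SL2).1 * M = _
      rw [h1]
      have h2 : (Dickson.negI : SL2).1 = -1 := by
        ext i j; fin_cases i <;> fin_cases j <;> simp [Dickson.negI]
      rw [h2, mul_neg, mul_one, neg_mul, Matrix.nonsing_inv_mul _ hMu]
    calc γ * φ w * γ⁻¹ * (γ * φ w * γ⁻¹) = γ * (φ w * φ w) * γ⁻¹ := by group
      _ = γ * φ (w * w) * γ⁻¹ := by simp only [φ, map_mul]
      _ = Dickson.negI := by rw [hw, hneg, ← Dickson.negI_comm γ, mul_inv_cancel_right]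

end Cfsg.Agent.Solv.ZJFail
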