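import Cfsg.Agent.Lib.Solv.ZJFail.Config
import Cfsg.Agent.Lib.Solv.ZJFail.FieldModel
import Cfsg.Agent.Lib.Solv.ZJFail.Planar
import Cfsg.Agent.Lib.Solv.ZJFail.Eigen

/-!
# Two elements generating a counterexample to the control of fusion
-/

set_option autoImplicit false
set_option linter.style.haveILetI false

open Matrix
open scoped commutatorElement

namespace Cfsg.Agent.Solv.ZJFail

open Cfsg.Agent.Fusion

universe u

namespace Cfg

variable {G : Type u} [Group G] [Finite G] {p : ℕ} [hp : Fact p.Prime] {H Z N B Y Q : Subgroup G}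
  {Del A₀ : Set G} {z : G}

theorem pGroup_zpowers (hC : Cfg p H Z N B Y Q Del A₀ z) {d : G} (hd : d ∈ Del) :
    IsPGroup p (Subgroup.zpowers d) := by
  obtain ⟨k, hk⟩ := hC.hDp d hd
  obtain ⟨j, -, hj⟩ := (Nat.dvd_prime_pow hp.out).1 (orderOf_dvd_of_pow_eq_one hk)
  exact IsPGroup.of_card (n := j) (by rw [Nat.card_zpowers, hj])

/-- An element of order prime to `p` moves `Z₁`. -/
theorem exists_moving (hC : Cfg p H Z N B Y Q Del A₀ z) {V L : Subgroup G} (hVp : IsPGroup p V)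
    (hVY : V ≤ Y)
    (hmax : ∀ R : Subgroup G, IsPGroup p R → R ≤ Y → V ≤ R → (∃ d ∈ Del, d ∈ R ∧ d ∉ hC.Y₀) →
      ∀ d ∈ Del, d ∈ R → d ∈ hC.Y₀ → d ∈ V)
    (hLY : L ≤ Y) (hLV : L ≤ Subgroup.normalizer (V : Set G)) {a x : G} (ha : a ∈ Del) (haL : a ∈ L)
    (ha0 : a ∈ hC.Y₀) (haV : a ∉ V) (hx : x ∈ Del) (hxL : x ∈ L) (hx0 : x ∉ hC.Y₀) :
    ∃ k ∈ L, (orderOf k).Coprime p ∧ ∃ v ∈ hC.Z₁, ⁅k, v⁆ ∉ N := by
  by_contra hcon
  push Not at hcon
  set K0 := Subgroup.closure {k | k ∈ L ∧ (orderOf k).Coprime p} with hK0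
  have hK0f : K0 ≤ hC.fixer := (Subgroup.closure_le _).2 fun k hk => hcon k hk.1 hk.2
  have hK0L : K0 ≤ L := (Subgroup.closure_le _).2 fun k hk => hk.1
  have hLK : L ≤ Subgroup.normalizer (K0 : Set G) := fun l hl => by
    refine mem_normalizer_of_cj_le ?_
    rw [cj_le_iff, hK0, Subgroup.closure_le]
    rintro k ⟨hk, hkc⟩
    refine mem_cj.2 (Subgroup.subset_closure ⟨?_, ?_⟩)
    · rw [inv_inv]; exact mul_mem (mul_mem hl hk) (inv_mem hl)
    · rw [inv_inv, ← MulAut.conj_apply, MulEquiv.orderOf_eq]; exact hkc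
  obtain ⟨R, hR, hxR⟩ := exists_sylIn_ge (hC.pGroup_zpowers hx) (Subgroup.zpowers_le.2 hxL)
  haveI hn : (K0.subgroupOf L).Normal :=
    Subgroup.normal_subgroupOf_of_le_normalizer hLK
  have hq : IsPGroup p (↥L ⧸ K0.subgroupOf L) := fun q => by
    obtain ⟨g, rfl⟩ := QuotientGroup.mk'_surjective _ q
    obtain ⟨e, he⟩ := exists_pPrime_pow (p := p) (g : G)
    refine ⟨e, ?_⟩
    rw [← map_pow, QuotientGroup.mk'_apply, QuotientGroup.eq_one_iff, Subgroup.mem_subgroupOf]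
    exact Subgroup.subset_closure ⟨(g ^ p ^ e).2, by simpa using he⟩
  obtain ⟨n, hn'⟩ := IsPGroup.iff_card.1 hq
  have hLeq : K0 ⊔ R = L := by
    refine le_antisymm (sup_le hK0L hR.le) (Subgroup.relIndex_eq_one.1 ?_)
    have h1 : (K0 ⊔ R).relIndex L ∣ p ^ n := hn' ▸ Subgroup.relIndex_dvd_of_le_left L le_sup_left
    obtain ⟨j, -, hj⟩ := (Nat.dvd_prime_pow hp.out).1 h1
    rcases j with _ | j
    · simpa using hj
    · refine absurd ?_ hR.not_dvd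
      exact (hj ▸ dvd_pow_self p (Nat.succ_ne_zero j)).trans
        (Subgroup.relIndex_dvd_of_le_left L le_sup_right)
  obtain ⟨l, hl, hlR⟩ := hR.conj_le (hC.pGroup_zpowers ha) (Subgroup.zpowers_le.2 haL)
  rw [← hLeq, sup_comm, ← SetLike.mem_coe,
    Subgroup.coe_mul_of_left_le_normalizer_right R K0 (hR.le.trans hLK)] at hl
  obtain ⟨r, hr, k, hk, rfl⟩ := hl
  have hd : k * a * k⁻¹ ∈ R := by
    have h1 := mul_mem (mul_mem (inv_mem hr) (hlR (conj_mem_cj (Subgroup.mem_zpowers a)))) hr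
    rwa [show r⁻¹ * (r * k * a * (r * k)⁻¹) * r = k * a * k⁻¹ by group] at h1
  have hkY : k ∈ hC.Y₀ := hC.fixer_le (hLY (hK0L hk)) (hK0f hk)
  have hRV : IsPGroup p ↥(R ⊔ V) := hR.isPGroup.to_sup_of_normal_right' hVp (hR.le.trans hLV)
  have hdV : k * a * k⁻¹ ∈ V := hmax _ hRV (sup_le (hR.le.trans hLY) hVY) le_sup_right
    ⟨x, hx, Subgroup.mem_sup_left (hxR (Subgroup.mem_zpowers x)), hx0⟩ _
    (hC.hDc a ha k (hLY (hK0L hk))) (Subgroup.mem_sup_left hd) (mul_mem (mul_mem hkY ha0) (inv_mem hkY))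
  exact haV ((Subgroup.mem_normalizer_iff.1 (hLV (hK0L hk)) a).2 hdV)

theorem main (hC : Cfg p H Z N B Y Q Del A₀ z) (hp2 : p ≠ 2) :
    Cfsg.Involves ↥(Cfsg.fOver (ZMod p)) ↥H ∧ ∃ C : Subgroup G, C ≤ Z ∧ Nat.card C = p ∧
      (H ⊓ Subgroup.centralizer (C : Set G)).relIndex (H ⊓ Subgroup.normalizer (C : Set G)) = p - 1 := by
  classical
  have hpp := hp.out
  obtain ⟨V, hVp, hVY, hVgen, hmax, ⟨a₁, ha₁, ha₁0, ha₁N, ha₁V⟩, x₁, hx₁, hx₁0, hx₁N⟩ := hC.exists_maximal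
  -- a smallest pair
  obtain ⟨⟨a, x⟩, ⟨haD, ha0, haN, haV, hxD, hx0, hxN⟩, hmin0⟩ := Set.exists_min_image
    {q : G × G | q.1 ∈ Del ∧ q.1 ∈ hC.Y₀ ∧ q.1 ∈ Subgroup.normalizer (V : Set G) ∧ q.1 ∉ V ∧ q.2 ∈ Del ∧
      q.2 ∉ hC.Y₀ ∧ q.2 ∈ Subgroup.normalizer (V : Set G)}
    (fun q => Nat.card (Subgroup.closure ({q.1, q.2} : Set G))) (Set.toFinite _)
    ⟨(a₁, x₁), ha₁, ha₁0, ha₁N, ha₁V, hx₁, hx₁0, hx₁N⟩
  dsimp only at haD ha0 haN haV hxD hx0 hxN hmin0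
  set L := Subgroup.closure ({a, x} : Set G) with hLdef
  have haL : a ∈ L := Subgroup.subset_closure (by simp)
  have hxL : x ∈ L := Subgroup.subset_closure (by simp)
  have hL2 : ∀ U : Subgroup G, a ∈ U → x ∈ U → L ≤ U := fun U h1 h2 =>
    (Subgroup.closure_le _).2 (Set.insert_subset h1 (Set.singleton_subset_iff.2 h2))
  have hLY : L ≤ Y := hL2 _ (hC.hDY haD) (hC.hDY hxD)
  have hLV : L ≤ Subgroup.normalizer (V : Set G) := hL2 _ haN hxN
  obtain ⟨k₀, hk₀L, hk₀p, v₀, hv₀, hk₀v⟩ :=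
    hC.exists_moving hVp hVY hmax hLY hLV haD haL ha0 haV hxD hxL hx0
  -- the invariant section
  set M := Subgroup.closure {w | ∃ l ∈ L, ∃ v ∈ hC.Z₁, w = l * v * l⁻¹} with hM
  have hMB : M ≤ B := (Subgroup.closure_le _).2 (by
    rintro _ ⟨l, hl, v, hv, rfl⟩
    exact (Subgroup.mem_normalizer_iff.1 (hC.hBY (hLY hl)) v).1 (hC.Z₁_le hv))
  have hZM : hC.Z₁ ≤ M := fun v hv => Subgroup.subset_closure ⟨1, one_mem _, v, hv, by group⟩
  have hLM : L ≤ Subgroup.normalizer (M : Set G) := fun l hl => by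
    refine mem_normalizer_of_cj_le ?_
    rw [cj_le_iff, hM, Subgroup.closure_le]
    rintro _ ⟨l', hl', v, hv, rfl⟩
    refine mem_cj.2 (Subgroup.subset_closure ⟨l * l', mul_mem hl hl', v, hv, ?_⟩)
    group
  have hcommM : ∀ l ∈ L, ∀ v ∈ M, ⁅l, v⁆ ∈ M := fun l hl v hv =>
    mul_mem ((Subgroup.mem_normalizer_iff.1 (hLM hl) v).1 hv) (inv_mem hv)
  obtain ⟨B₂, ⟨hNB₂, hB₂M, hLB₂, k₁, hk₁L, hk₁p, v₁, hv₁, hk₁v⟩, hB₂max⟩ := Set.exists_max_image
    {U : Subgroup G | N ≤ U ∧ U ≤ M ∧ L ≤ Subgroup.normalizer (U : Set G) ∧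
      ∃ k ∈ L, (orderOf k).Coprime p ∧ ∃ v ∈ hC.Z₁, ⁅k, v⁆ ∉ U}
    (fun U => Nat.card U) (Set.toFinite _)
    ⟨N, le_rfl, hC.N_le_Z₁.trans hZM, by
      haveI := hC.hNn
      rw [Subgroup.normalizer_eq_top (H := N)]; exact le_top, k₀, hk₀L, hk₀p, v₀, hv₀, hk₀v⟩
  have hlt : B₂ < M := lt_of_le_of_ne hB₂M fun h => hk₁v (h ▸ hcommM _ hk₁L _ (hZM hv₁))
  obtain ⟨W, ⟨hB₂W, hWM, hLW⟩, hWmin⟩ := Set.exists_min_image
    {U : Subgroup G | B₂ < U ∧ U ≤ M ∧ L ≤ Subgroup.normalizer (U : Set G)} (fun U => Nat.card U)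
    (Set.toFinite _) ⟨M, hlt, le_rfl, hLM⟩
  have hWB : W ≤ B := hWM.trans hMB
  have hpW : ∀ k ∈ L, (orderOf k).Coprime p → ∀ v ∈ hC.Z₁, ⁅k, v⁆ ∈ W := by
    intro k hk hkc v hv
    by_contra h
    have h1 := hB₂max W ⟨hNB₂.trans hB₂W.le, hWM, hLW, k, hk, hkc, v, hv, h⟩
    exact hB₂W.ne (Subgroup.eq_of_le_of_card_ge hB₂W.le h1)
  have hWW : ∀ u ∈ W, ∀ v ∈ W, ⁅u, v⁆ ∈ B₂ := fun u hu v hv => hNB₂ (hC.hBB u (hWB hu) v (hWB hv))
  have hWp : ∀ u ∈ W, u ^ p ∈ B₂ := fun u hu => hNB₂ (hC.hBp u (hWB hu))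
  have hirr : ∀ U : Subgroup G, B₂ ≤ U → U ≤ W → a ∈ Subgroup.normalizer (U : Set G) →
      x ∈ Subgroup.normalizer (U : Set G) → U = B₂ ∨ U = W := by
    intro U h1 h2 h3 h4
    refine or_iff_not_imp_left.2 fun hne => ?_
    exact Subgroup.eq_of_le_of_card_ge h2
      (hWmin U ⟨lt_of_le_of_ne h1 (Ne.symm hne), h2.trans hWM, hL2 _ h3 h4⟩)
  have hne : ∃ u ∈ W, ⁅a, u⁆ ∉ B₂ ∨ ⁅x, u⁆ ∉ B₂ := by
    by_contra hcon
    push Not at hcon
    let Cw : Subgroup G :=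
      { carrier := {l | l ∈ L ∧ ∀ u ∈ W, ⁅l, u⁆ ∈ B₂}
        one_mem' := ⟨one_mem _, fun u _ => by rw [commutatorElement_one_left]; exact one_mem _⟩
        mul_mem' := fun {g h} hg hh => ⟨mul_mem hg.1 hh.1, fun u hu => by
          rw [comm_mul_left]
          exact mul_mem ((Subgroup.mem_normalizer_iff.1 (hLB₂ hg.1) _).1 (hh.2 u hu)) (hg.2 u hu)⟩
        inv_mem' := fun {g} hg => ⟨inv_mem hg.1, fun u hu => by
          rw [comm_inv_left]
          have := (Subgroup.mem_normalizer_iff.1 (inv_mem (hLB₂ hg.1)) _).1 (inv_mem (hg.2 u hu))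
          rwa [inv_inv] at this⟩ }
    have hall : L ≤ Cw := hL2 _ ⟨haL, fun u hu => (hcon u hu).1⟩ ⟨hxL, fun u hu => (hcon u hu).2⟩
    set δ := ⁅k₁, v₁⁆
    have hδW : δ ∈ W := hpW _ hk₁L hk₁p _ hv₁
    have hpow : ∀ n : ℕ, ⁅k₁ ^ n, v₁⁆ * (δ ^ n)⁻¹ ∈ B₂ := fun n => by
      induction n with
      | zero => simp
      | succ n ih =>
        have he : ⁅k₁ ^ n, v₁⁆ ∈ W := by
          have := mul_mem (hB₂W.le ih) (pow_mem hδW n)
          rwa [inv_mul_cancel_right] at this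
        have h := mul_mem ((hall hk₁L).2 _ he) ih
        rw [pow_succ', comm_mul_left, conj_eq_comm_mul, pow_succ]
        show ⁅k₁, ⁅k₁ ^ n, v₁⁆⁆ * ⁅k₁ ^ n, v₁⁆ * δ * (δ ^ n * δ)⁻¹ ∈ B₂
        rwa [show ⁅k₁, ⁅k₁ ^ n, v₁⁆⁆ * ⁅k₁ ^ n, v₁⁆ * δ * (δ ^ n * δ)⁻¹ =
          ⁅k₁, ⁅k₁ ^ n, v₁⁆⁆ * (⁅k₁ ^ n, v₁⁆ * (δ ^ n)⁻¹) by group]
    have h1 := hpow (orderOf k₁)
    rw [pow_orderOf_eq_one, commutatorElement_one_left, one_mul, inv_mem_iff] at h1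
    refine hk₁v ?_
    have hb := Nat.gcd_eq_gcd_ab (orderOf k₁) p
    rw [Nat.Coprime.gcd_eq_one hk₁p, Nat.cast_one] at hb
    have e : δ = (δ ^ orderOf k₁) ^ Nat.gcdA (orderOf k₁) p * (δ ^ p) ^ Nat.gcdB (orderOf k₁) p := by
      rw [← zpow_natCast δ (orderOf k₁), ← zpow_natCast δ p, ← _root_.zpow_mul, ← _root_.zpow_mul, ← _root_.zpow_add, ← hb, zpow_one]
    rw [e]
    exact mul_mem (zpow_mem h1 _) (zpow_mem (hWp δ hδW) _)
  obtain ⟨F, _, _, _, ψ, μ, hμ, hψmul, hψ0, hψs, hψa, hψx⟩ := exists_field_model W B₂ a x hB₂W.le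
    (hLW haL) (hLW hxL) (hLB₂ haL) (hLB₂ hxL) hWW hWp
    (fun u hu => hNB₂ (hC.hDq a haD u (hWB hu))) (fun u hu => hNB₂ (hC.hDq x hxD u (hWB hu))) hirr hne
  have h2F : (2 : F) ≠ 0 := Ring.two_ne_zero (by rw [ringChar.eq F p]; exact hp2)
  have ψ1 : ψ 1 = 0 := (hψ0 1 (one_mem _)).2 (one_mem _)
  have ψinv : ∀ u ∈ W, ψ u⁻¹ = -ψ u := fun u hu => by
    have := hψmul u⁻¹ (inv_mem hu) u hu
    rw [inv_mul_cancel, ψ1] at this
    exact eq_neg_of_add_eq_zero_left this.symm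
  have hconjW : ∀ g ∈ L, ∀ u ∈ W, g * u * g⁻¹ ∈ W := fun g hg u hu =>
    (Subgroup.mem_normalizer_iff.1 (hLW hg) u).1 hu
  -- the representation
  let Yr : Subgroup G :=
    { carrier := {g | g ∈ L ∧ ∃ R : Matrix.SpecialLinearGroup (Fin 2) F, ∀ u ∈ W, ψ (g * u * g⁻¹) = R.1 *ᵥ ψ u}
      one_mem' := ⟨one_mem _, 1, fun u _ => by simp⟩
      mul_mem' := by
        rintro g h ⟨hg, R, hR⟩ ⟨hh, S, hS⟩
        refine ⟨mul_mem hg hh, R * S, fun u hu => ?_⟩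
        rw [show g * h * u * (g * h)⁻¹ = g * (h * u * h⁻¹) * g⁻¹ by group, hR _ (hconjW h hh u hu), hS u hu,
          mulVec_mulVec]
        rfl
      inv_mem' := by
        rintro g ⟨hg, R, hR⟩
        refine ⟨inv_mem hg, R⁻¹, fun u hu => ?_⟩
        have h2 := hR _ (hconjW _ (inv_mem hg) u hu)
        rw [show g * (g⁻¹ * u * g⁻¹⁻¹) * g⁻¹ = u by group] at h2
        rw [h2, mulVec_mulVec, show (R⁻¹).1 * R.1 = 1 from congrArg Subtype.val (inv_mul_cancel R), one_mulVec] }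
  have hLr : L ≤ Yr := hL2 _ ⟨haL, _, hψa⟩ ⟨hxL, _, hψx⟩
  have hex : ∀ g : G, ∃ R : Matrix.SpecialLinearGroup (Fin 2) F,
      g ∈ L → ∀ u ∈ W, ψ (g * u * g⁻¹) = R.1 *ᵥ ψ u := fun g => by
    by_cases hg : g ∈ L
    · obtain ⟨R, hR⟩ := (hLr hg).2
      exact ⟨R, fun _ => hR⟩
    · exact ⟨1, fun h => absurd h hg⟩
  choose τ hτ using hex
  have huniq : ∀ g ∈ L, ∀ R : Matrix.SpecialLinearGroup (Fin 2) F,
      (∀ u ∈ W, ψ (g * u * g⁻¹) = R.1 *ᵥ ψ u) → τ g = R := fun g hg R hR => by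
    refine Subtype.ext (Matrix.ext_iff_mulVec.2 fun w => ?_)
    obtain ⟨u, hu, rfl⟩ := hψs w
    rw [← hτ g hg u hu, hR u hu]
  have τa : τ a = Dickson.upU 1 := huniq a haL _ hψa
  have τx : τ x = Dickson.lowL μ := huniq x hxL _ hψx
  have τmul : ∀ g ∈ L, ∀ h ∈ L, τ (g * h) = τ g * τ h := fun g hg h hh =>
    huniq _ (mul_mem hg hh) _ fun u hu => by
      rw [show g * h * u * (g * h)⁻¹ = g * (h * u * h⁻¹) * g⁻¹ by group, hτ g hg _ (hconjW h hh u hu),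
        hτ h hh u hu, mulVec_mulVec]
      rfl
  have τone : τ 1 = 1 := huniq 1 (one_mem _) _ fun u _ => by simp
  have τinv : ∀ g ∈ L, τ g⁻¹ = (τ g)⁻¹ := fun g hg =>
    eq_inv_of_mul_eq_one_left (by rw [← τmul _ (inv_mem hg) _ hg, inv_mul_cancel, τone])
  have τpow : ∀ g ∈ L, ∀ n : ℕ, τ (g ^ n) = τ g ^ n := fun g hg n => by
    induction n with
    | zero => rw [pow_zero, pow_zero, τone]
    | succ n ih => rw [pow_succ, pow_succ, τmul _ (pow_mem hg n) _ hg, ih]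
  -- elements carrying `Z₁` into the section
  let Lw : Subgroup G :=
    { carrier := {g | g ∈ L ∧ ∀ v ∈ hC.Z₁, ⁅g, v⁆ ∈ W}
      one_mem' := ⟨one_mem _, fun v _ => by rw [commutatorElement_one_left]; exact one_mem _⟩
      mul_mem' := fun {g h} hg hh => ⟨mul_mem hg.1 hh.1, fun v hv => by
        rw [comm_mul_left]
        exact mul_mem (hconjW g hg.1 _ (hh.2 v hv)) (hg.2 v hv)⟩
      inv_mem' := fun {g} hg => ⟨inv_mem hg.1, fun v hv => by
        rw [comm_inv_left]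
        have := hconjW _ (inv_mem hg.1) _ (inv_mem (hg.2 v hv))
        rwa [inv_inv] at this⟩ }
  have haw : a ∈ Lw := ⟨haL, fun v hv => hB₂W.le (hNB₂ (hC.good_fix haD ha0 hv))⟩
  have hpLw : ∀ k ∈ L, (orderOf k).Coprime p → k ∈ Lw := fun k hk hkc => ⟨hk, hpW k hk hkc⟩
  have hcoc : ∀ g ∈ Lw, ∀ h ∈ Lw, ∀ v ∈ hC.Z₁,
      ψ ⁅g * h, v⁆ = (τ g).1 *ᵥ ψ ⁅h, v⁆ + ψ ⁅g, v⁆ := fun g hg h hh v hv => by
    rw [comm_mul_left, hψmul _ (hconjW g hg.1 _ (hh.2 v hv)) _ (hg.2 v hv), hτ g hg.1 _ (hh.2 v hv)]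
  have hψone : ∀ v : G, ψ ⁅(1 : G), v⁆ = 0 := fun v => by rw [commutatorElement_one_left, ψ1]
  -- the consequence of minimality
  let Tri : Subgroup G :=
    { carrier := {g | g ∈ L ∧ (τ g).1 1 0 = 0}
      one_mem' := ⟨one_mem _, by rw [τone]; rfl⟩
      mul_mem' := fun {g h} hg hh => ⟨mul_mem hg.1 hh.1, by
        rw [τmul _ hg.1 _ hh.1, Dickson.mul_entry, hg.2, hh.2]; ring⟩
      inv_mem' := fun {g} hg => ⟨inv_mem hg.1, by
        rw [τinv _ hg.1, (Dickson.inv_entries _).2.2.1, hg.2, neg_zero]⟩ }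
  have haT : a ∈ Tri := ⟨haL, by rw [τa]; rfl⟩
  have hxT : x ∉ Tri := fun h => hμ (by
    have := h.2
    rw [τx] at this
    exact this)
  have hmin : ∀ h ∈ Lw, (τ h).1 1 0 = 0 → ∀ v ∈ hC.Z₁, ψ ⁅h, v⁆ 1 = 0 := by
    intro h hh h10 v hv
    set y := h⁻¹ * a * h with hy
    have hyD : y ∈ Del := by
      have := hC.hDc a haD h⁻¹ (inv_mem (hLY hh.1))
      rwa [inv_inv] at this
    have hyT : y ∈ Tri := mul_mem (mul_mem (inv_mem ⟨hh.1, h10⟩) haT) ⟨hh.1, h10⟩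
    have hsub : Subgroup.closure ({a, y} : Set G) ≤ Tri ⊓ L :=
      (Subgroup.closure_le _).2 (Set.insert_subset ⟨haT, haL⟩ (Set.singleton_subset_iff.2 ⟨hyT, hyT.1⟩))
    have hy0 : y ∈ hC.Y₀ := by
      by_contra hy0
      have h1 := hmin0 (a, y) ⟨haD, ha0, haN, haV, hyD, hy0, hLV hyT.1⟩
      exact hxT ((Subgroup.eq_of_le_of_card_ge (hsub.trans inf_le_right) h1).ge.trans hsub hxL).1
    have hN1 : ⁅a, h * v * h⁻¹⁆ ∈ N := by
      have := hC.hNn.conj_mem _ (hC.good_fix hyD hy0 hv) h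
      rwa [← comm_conj, show h * y * h⁻¹ = a by rw [hy]; group] at this
    rw [conj_eq_comm_mul, comm_mul_right] at hN1
    have hN2 : ⁅a, ⁅h, v⁆⁆ ∈ N :=
      (mul_mem_cancel_right (hC.hNn.conj_mem _ (hC.good_fix haD ha0 hv) _)).1 hN1
    have hfix : ψ (a * ⁅h, v⁆ * a⁻¹) = ψ ⁅h, v⁆ := by
      rw [conj_eq_comm_mul, hψmul _ (hB₂W.le (hNB₂ hN2)) _ (hh.2 v hv),
        (hψ0 _ (hB₂W.le (hNB₂ hN2))).2 (hNB₂ hN2), zero_add]
    rw [hψa _ (hh.2 v hv)] at hfix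
    have := congrFun hfix 0
    simpa [mulVec, dotProduct, Fin.sum_univ_two] using this
  -- a generator of the multiplicative group
  obtain ⟨gc, hgc⟩ := IsCyclic.exists_generator (α := (ZMod p)ˣ)
  set c : ℕ := (gc : ZMod p).val with hcdef
  have hcc : (c : ZMod p) = gc := ZMod.natCast_zmod_val _
  have hc : ∀ u : ZMod p, u ≠ 0 → ∃ i : ℕ, (c : ZMod p) ^ i = u := fun u hu => by
    obtain ⟨i, hi⟩ := mem_powers_iff_mem_zpowers.2 (hgc (Units.mk0 u hu))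
    refine ⟨i, ?_⟩
    rw [hcc, ← Units.val_pow_eq_pow_val]
    exact congrArg Units.val hi
  have hc0 : (c : ZMod p) ≠ 0 := hcc ▸ gc.ne_zero
  let τh : L →* Matrix.SpecialLinearGroup (Fin 2) F :=
    { toFun := fun g => τ g
      map_one' := τone
      map_mul' := fun g h => τmul _ g.2 _ h.2 }
  obtain ⟨⟨T, ⟨l0, hl0⟩, hT10, hT00⟩, W', ⟨g0, hg0⟩, hW10, hW2⟩ :=
    exists_torus hp2 τh.range hμ ⟨⟨a, haL⟩, τa⟩ ⟨⟨x, hxL⟩, τx⟩ hc0
  have hl0' : τ l0 = T := hl0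
  have hg0' : τ g0 = W' := hg0
  -- an element of order prime to `p` normalising a Sylow subgroup above `a`
  let Uni : Subgroup G :=
    { carrier := {g | g ∈ L ∧ (τ g).1 1 0 = 0 ∧ (τ g).1 0 0 = 1}
      one_mem' := ⟨one_mem _, by rw [τone]; exact ⟨rfl, rfl⟩⟩
      mul_mem' := fun {g h} hg hh => by
        refine ⟨mul_mem hg.1 hh.1, ?_, ?_⟩ <;>
          rw [τmul _ hg.1 _ hh.1, Dickson.mul_entry] <;> simp [hg.2.1, hh.2.1, hg.2.2, hh.2.2]
      inv_mem' := fun {g} hg => by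
        obtain ⟨i1, -, i3, -⟩ := Dickson.inv_entries (τ g)
        have hd := Dickson.det_eq (τ g)
        rw [hg.2.1, hg.2.2] at hd
        refine ⟨inv_mem hg.1, ?_, ?_⟩
        · rw [τinv _ hg.1, i3, hg.2.1, neg_zero]
        · rw [τinv _ hg.1, i1]; linear_combination hd }
  have hTU : Tri ≤ Subgroup.normalizer (Uni : Set G) := fun g hg => mem_normalizer_of_cj_le (by
    rintro _ ⟨u, hu, rfl⟩
    show g * u * g⁻¹ ∈ L ∧ (τ (g * u * g⁻¹)).1 1 0 = 0 ∧ (τ (g * u * g⁻¹)).1 0 0 = 1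
    have h1 : g * u * g⁻¹ ∈ Tri := mul_mem (mul_mem hg ⟨hu.1, hu.2.1⟩) (inv_mem hg)
    refine ⟨h1.1, h1.2, ?_⟩
    obtain ⟨i1, -, i3, -⟩ := Dickson.inv_entries (τ g)
    have hd := Dickson.det_eq (τ g)
    rw [hg.2, mul_zero, sub_zero] at hd
    rw [τmul _ (mul_mem hg.1 hu.1) _ (inv_mem hg.1), τmul _ hg.1 _ hu.1, τinv _ hg.1]
    simp only [Dickson.mul_entry, i1, i3, hu.2.1, hu.2.2, hg.2]
    linear_combination hd)
  have haU : a ∈ Uni := ⟨haL, by rw [τa]; exact ⟨rfl, rfl⟩⟩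
  obtain ⟨R, hR, haR⟩ := exists_sylIn_ge (hC.pGroup_zpowers haD) (Subgroup.zpowers_le.2 haU)
  have hl0T : (l0 : G) ∈ Tri := ⟨l0.2, by rw [hl0']; exact hT10⟩
  obtain ⟨k, hk, hkn⟩ := frattini_conj hR hTU hl0T
  have hkl : k * l0 ∈ L := mul_mem hk.1 l0.2
  obtain ⟨e, he⟩ := exists_pPrime_pow (p := p) (k * (l0 : G))
  set t := (k * (l0 : G)) ^ p ^ e with ht
  set γ : F := ZMod.castHom dvd_rfl F (c : ZMod p) with hγdef
  have hkl10 : (τ (k * l0)).1 1 0 = 0 := by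
    rw [τmul _ hk.1 _ l0.2, Dickson.mul_entry, hk.2.1, hl0', hT10]; ring
  have hkl00 : (τ (k * l0)).1 0 0 = γ := by
    rw [τmul _ hk.1 _ l0.2, Dickson.mul_entry, hk.2.2, hl0', hT10, hT00, one_mul, mul_zero, add_zero]
  have hupow : ∀ n : ℕ, (τ ((k * l0) ^ n)).1 1 0 = 0 ∧ (τ ((k * l0) ^ n)).1 0 0 = γ ^ n := fun n => by
    induction n with
    | zero => rw [pow_zero, τone, pow_zero]; exact ⟨rfl, rfl⟩
    | succ n ih =>
      rw [pow_succ, τmul _ (pow_mem hkl n) _ hkl, Dickson.mul_entry, Dickson.mul_entry, ih.1, ih.2, hkl10,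
        hkl00, pow_succ]
      exact ⟨by ring, by ring⟩
  have htL : t ∈ L := pow_mem hkl _
  have ht10 : (τ t).1 1 0 = 0 := (hupow _).1
  have ht00 : (τ t).1 0 0 = γ := by
    show (τ ((k * (l0 : G)) ^ p ^ e)).1 0 0 = γ
    rw [(hupow _).2, hγdef, ← map_pow, ZMod.pow_card_pow]
  have htR : t ∈ Subgroup.normalizer (R : Set G) := pow_mem hkn _
  have htw : t ∈ Lw := hpLw t htL he
  obtain ⟨htp, hhalf⟩ := triangular_half (p := p) (F := F) hp2 (T := τ t) ht10 hc ht00 he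
    (by rw [← τpow t htL, pow_orderOf_eq_one, τone])
  have hγ0 : γ ≠ 0 := by
    rw [hγdef, Ne, map_eq_zero_iff _ (RingHom.injective _)]
    exact hc0
  by_cases hcase : ∀ v ∈ hC.Z₁, ψ ⁅t, v⁆ = 0
  · exfalso
    set s := t ^ ((p - 1) / 2) with hs
    have hsw : s ∈ Lw := pow_mem htw _
    have hτs : τ s = Dickson.negI := by
      rw [τpow t htL, ← mul_one ((p - 1) / 2)]; exact hhalf 1 odd_one
    have hes : ∀ v ∈ hC.Z₁, ψ ⁅s, v⁆ = 0 := fun v hv => by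
      have : ∀ n : ℕ, ψ ⁅t ^ n, v⁆ = 0 := fun n => by
        induction n with
        | zero => rw [pow_zero]; exact hψone v
        | succ n ih => rw [pow_succ, hcoc _ (pow_mem htw n) _ htw v hv, hcase v hv, mulVec_zero, ih, add_zero]
      exact this _
    -- an element of `Lw` moving the distinguished line
    obtain ⟨e', he'⟩ := exists_pPrime_pow (p := p) (g0 : G)
    set g := (g0 : G) ^ p ^ e'
    have hgw : g ∈ Lw := hpLw g (pow_mem g0.2 _) he'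
    have hg10 : (τ g).1 1 0 ≠ 0 := by
      obtain ⟨m, hm⟩ := (hpp.odd_of_ne_two hp2).pow (n := e')
      rw [τpow _ g0.2, hg0', hm, pow_succ, pow_mul, sq, hW2]
      rcases Nat.even_or_odd m with ⟨j, rfl⟩ | hodd
      · rw [← two_mul, pow_mul, sq, Dickson.negI_sq, one_pow, one_mul]; exact hW10
      · rw [Dickson.negI_pow_odd hodd, Dickson.mul_entry]
        simpa using hW10
    have hker : ∀ h ∈ Lw, τ h = 1 → ∀ v ∈ hC.Z₁, ψ ⁅h, v⁆ = 0 := by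
      intro h hh h1 v hv
      have hv1 : ψ ⁅h, v⁆ 1 = 0 := hmin h hh (by rw [h1]; rfl) v hv
      have hτc : τ (g * h * g⁻¹) = 1 := by
        rw [τmul _ (mul_mem hgw.1 hh.1) _ (inv_mem hgw.1), τmul _ hgw.1 _ hh.1, h1, τinv _ hgw.1, mul_one,
          mul_inv_cancel]
      have h2 := hmin _ (mul_mem (mul_mem hgw hh) (inv_mem hgw)) (by rw [hτc]; rfl) v hv
      have h3 : ψ ⁅g * h * g⁻¹, v⁆ = (τ g).1 *ᵥ ψ ⁅h, v⁆ := by
        have h4 := hcoc g hgw g⁻¹ (inv_mem hgw) v hv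
        rw [mul_inv_cancel, hψone] at h4
        rw [hcoc _ (mul_mem hgw hh) _ (inv_mem hgw) v hv, hcoc g hgw h hh v hv, τmul _ hgw.1 _ hh.1, h1, mul_one,
          add_left_comm, ← h4, add_zero]
      rw [h3] at h2
      simp only [mulVec, dotProduct, Fin.sum_univ_two, hv1, mul_zero, add_zero] at h2
      have hv0 : ψ ⁅h, v⁆ 0 = 0 := (mul_eq_zero.1 h2).resolve_left hg10
      funext i
      fin_cases i
      · exact hv0
      · exact hv1
    have hall : ∀ h ∈ Lw, ∀ v ∈ hC.Z₁, ψ ⁅h, v⁆ = 0 := by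
      intro h hh v hv
      set q := h * s * h⁻¹ with hq
      have hqw : q ∈ Lw := mul_mem (mul_mem hh hsw) (inv_mem hh)
      have hτq : τ q = Dickson.negI := by
        rw [τmul _ (mul_mem hh.1 hsw.1) _ (inv_mem hh.1), τmul _ hh.1 _ hsw.1, hτs, τinv _ hh.1,
          ← Dickson.negI_comm, mul_inv_cancel_right]
      have h5 : ψ ⁅q, v⁆ = 0 := by
        have hk1 : τ (s⁻¹ * q) = 1 := by
          rw [τmul _ (inv_mem hsw.1) _ hqw.1, τinv _ hsw.1, hτs, hτq, inv_mul_cancel]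
        have := hcoc s hsw (s⁻¹ * q) (mul_mem (inv_mem hsw) hqw) v hv
        rwa [mul_inv_cancel_left, hker _ (mul_mem (inv_mem hsw) hqw) hk1 v hv, mulVec_zero, hes v hv,
          add_zero] at this
      have h6 := hcoc q hqw h hh v hv
      rw [show q * h = h * s by rw [hq]; group, hcoc h hh s hsw v hv, hes v hv, mulVec_zero, zero_add, h5,
        add_zero, hτq] at h6
      funext i
      have h7 := congrFun h6 i
      have : (2 : F) * ψ ⁅h, v⁆ i = 0 := by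
        fin_cases i <;> simp [Dickson.negI, mulVec, dotProduct, Fin.sum_univ_two] at h7 <;>
          simp only [Fin.zero_eta, Fin.mk_one, Fin.isValue] <;> linear_combination h7
      exact (mul_eq_zero.1 this).resolve_left h2F
    exact hk₁v ((hψ0 _ (hpW _ hk₁L hk₁p _ hv₁)).1 (hall _ (hpLw _ hk₁L hk₁p) _ hv₁))
  push Not at hcase
  obtain ⟨v, hv, hηne⟩ := hcase
  set η := ⁅t, v⁆ with hη
  have hηW : η ∈ W := htw.2 v hv
  have hη1 : ψ η 1 = 0 := hmin t htw ht10 v hv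
  -- the realising elements
  set P := Subgroup.closure (Del ∩ (R ⊔ V : Subgroup G)) with hP
  have hRL : R ≤ L := hR.le.trans fun g hg => hg.1
  have hRV : IsPGroup p ↥(R ⊔ V) := hR.isPGroup.to_sup_of_normal_right' hVp (hRL.trans hLV)
  have hPRV : P ≤ R ⊔ V := (Subgroup.closure_le _).2 Set.inter_subset_right
  have hRVY : R ⊔ V ≤ Y := sup_le (hRL.trans hLY) hVY
  have hVP : V ≤ P := by
    rw [hVgen]
    exact Subgroup.closure_mono fun d hd => ⟨hd.1, Subgroup.mem_sup_right hd.2.1⟩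
  have haRV : a ∈ R ⊔ V := Subgroup.mem_sup_left (haR (Subgroup.mem_zpowers a))
  have hgood : ∀ d ∈ Del, d ∈ P → d ∈ hC.Y₀ := fun d hd hdP => by_contra fun hd0 =>
    haV (hmax _ hRV hRVY le_sup_right ⟨d, hd, hPRV hdP, hd0⟩ a haD haRV ha0)
  have htP : t ∈ Subgroup.normalizer (P : Set G) := by
    refine mem_normalizer_of_cj_le ?_
    rw [cj_le_iff, hP, Subgroup.closure_le]
    rintro d ⟨hd, hdR⟩
    refine mem_cj.2 (Subgroup.subset_closure ⟨?_, ?_⟩)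
    · rw [inv_inv]; exact hC.hDc d hd t (hLY htL)
    · rw [inv_inv]
      have h1 : cj (R ⊔ V) t = R ⊔ V := by rw [cj_sup, cj_eq_self htR, cj_eq_self (hLV htL)]
      exact h1 ▸ conj_mem_cj hdR
  obtain ⟨ht', ht'H, ht'e⟩ := hC.realised_normalizer hmax (hRV.to_le hPRV) (hPRV.trans hRVY) hVP
    (Subgroup.closure_mono fun d hd => ⟨hd.1, Subgroup.subset_closure hd⟩) hgood
    ⟨a, haD, Subgroup.subset_closure ⟨haD, haRV⟩, haV⟩ (hLY htL) htP
  obtain ⟨ha', ha'H, ha'e⟩ := hC.realised_Y₀ ha0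
  -- the plane over the prime field
  set ι := ZMod.castHom dvd_rfl F (n := p)
  set T' := τ t
  have hT11 : T'.1 1 1 = γ⁻¹ := by
    have hd := Dickson.det_eq T'
    rw [ht10, ht00, mul_zero, sub_zero] at hd
    exact eq_inv_of_mul_eq_one_right hd
  obtain ⟨ω, hω⟩ : ∃ ω : F, γ * ω + T'.1 0 1 = γ⁻¹ * ω := by
    by_cases hγ : γ⁻¹ = γ
    · refine ⟨0, ?_⟩
      have hbeta : ∀ n : ℕ, (T' ^ n).1 0 0 = γ ^ n ∧ (T' ^ n).1 0 1 * γ = n * γ ^ n * T'.1 0 1 := fun n => by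
        induction n with
        | zero => simp [Dickson.one_entries]
        | succ n ih =>
          rw [pow_succ, Dickson.mul_entry, Dickson.mul_entry, ih.1, ht00, ht10, hT11, hγ, pow_succ]
          refine ⟨by ring, ?_⟩
          push_cast
          linear_combination γ * ih.2
      have h1 := (hbeta (p - 1)).2
      rw [htp, Dickson.one_entries.2.1, zero_mul, Nat.cast_sub hpp.one_le, CharP.cast_eq_zero, Nat.cast_one] at h1
      have h3 : T'.1 0 1 = 0 := by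
        refine (mul_eq_zero.1 (?_ : γ ^ (p - 1) * T'.1 0 1 = 0)).resolve_left (pow_ne_zero _ hγ0)
        linear_combination h1
      rw [h3]; ring
    · refine ⟨T'.1 0 1 / (γ⁻¹ - γ), ?_⟩
      have e1 := mul_div_cancel₀ (T'.1 0 1) (sub_ne_zero.2 hγ)
      linear_combination -e1
  let φ : (Fin 2 → ZMod p) → (Fin 2 → F) := fun w => ![ι (w 0) + ι (w 1) * ω, ι (w 1)]
  have φadd : ∀ w w', φ (w + w') = φ w + φ w' := fun w w' => by
    funext i
    fin_cases i <;> simp [φ]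
    ring
  have φinj : Function.Injective φ := fun w w' h => by
    have h1 := congrFun h 1
    have h0 := congrFun h 0
    simp [φ] at h0 h1
    have e1 := ι.injective h1
    rw [e1] at h0
    have e0 := ι.injective (add_right_cancel h0)
    funext i
    fin_cases i
    · exact e0
    · exact e1
  have φ0 : φ 0 = 0 := by funext i; fin_cases i <;> simp [φ]
  let V₂ : Subgroup G :=
    { carrier := {u | u ∈ W ∧ ∃ w, φ w = ψ u}
      one_mem' := ⟨one_mem _, 0, by rw [φ0, ψ1]⟩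
      mul_mem' := by
        rintro u u' ⟨hu, w, hw⟩ ⟨hu', w', hw'⟩
        exact ⟨mul_mem hu hu', w + w', by rw [φadd, hw, hw', hψmul u hu u' hu']⟩
      inv_mem' := by
        rintro u ⟨hu, w, hw⟩
        refine ⟨inv_mem hu, -w, ?_⟩
        rw [ψinv u hu, ← hw]
        exact eq_neg_of_add_eq_zero_left (by rw [← φadd, neg_add_cancel, φ0]) }
  set f : G → (Fin 2 → ZMod p) := fun u => Function.invFun φ (ψ u)
  have hf : ∀ u ∈ V₂, φ (f u) = ψ u := fun u hu => Function.invFun_eq hu.2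
  have hVH : V₂ ≤ H := fun u hu => hC.hBH (hWB hu.1)
  have hpart1 : Cfsg.Involves ↥(Cfsg.fOver (ZMod p)) ↥H := by
    refine involves_fOver_of_borel hp2 H V₂ hVH f ?_ ?_ ha' ht' ha'H ht'H (c := (c : ZMod p)) hc
      ⟨!![(c : ZMod p), 0; 0, (c : ZMod p)⁻¹], by simp [Matrix.det_fin_two, hc0]⟩ rfl rfl ?_ ?_
    · intro u hu u' hu'
      apply φinj
      rw [φadd, hf u hu, hf u' hu', hf _ (mul_mem hu hu'), hψmul u hu.1 u' hu'.1]
    · intro w
      obtain ⟨u, hu, he⟩ := hψs (φ w)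
      refine ⟨u, ⟨hu, w, he.symm⟩, φinj ?_⟩
      rw [hf u ⟨hu, w, he.symm⟩, he]
    · intro u hu
      rw [ha'e u (hWB hu.1)]
      have key : φ ((Dickson.upU (1 : ZMod p)).1 *ᵥ f u) = ψ (a * u * a⁻¹) := by
        rw [hψa u hu.1, ← hf u hu]
        funext i
        fin_cases i <;> simp [φ, mulVec, dotProduct, Fin.sum_univ_two]
        ring
      have hmem : a * u * a⁻¹ ∈ V₂ := ⟨hconjW a haL u hu.1, _, key⟩
      exact ⟨hmem, φinj (by rw [hf _ hmem, key])⟩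
    · intro u hu
      rw [ht'e u (hWB hu.1)]
      have key : φ ((!![(c : ZMod p), 0; 0, (c : ZMod p)⁻¹] : Matrix (Fin 2) (Fin 2) (ZMod p)) *ᵥ f u) =
          ψ (t * u * t⁻¹) := by
        rw [hτ t htL u hu.1, ← hf u hu]
        have e1 : (!![(c : ZMod p), 0; 0, (c : ZMod p)⁻¹] : Matrix (Fin 2) (Fin 2) (ZMod p)) *ᵥ f u =
            ![(c : ZMod p) * f u 0, (c : ZMod p)⁻¹ * f u 1] := by
          funext i; fin_cases i <;> simp [mulVec, dotProduct, Fin.sum_univ_two]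
        have e2 : ∀ w : Fin 2 → F, T'.1 *ᵥ w = ![γ * w 0 + T'.1 0 1 * w 1, γ⁻¹ * w 1] := fun w => by
          funext i; fin_cases i <;> simp [mulVec, dotProduct, Fin.sum_univ_two, ht00, ht10, hT11]
        have hιc : ι (c : ZMod p) = γ := rfl
        rw [e1, e2]
        funext i
        fin_cases i
        · show ι ((c : ZMod p) * f u 0) + ι ((c : ZMod p)⁻¹ * f u 1) * ω =
            γ * (ι (f u 0) + ι (f u 1) * ω) + T'.1 0 1 * ι (f u 1)
          rw [map_mul, map_mul, map_inv₀, hιc]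
          linear_combination -(ι (f u 1)) * hω
        · show ι ((c : ZMod p)⁻¹ * f u 1) = γ⁻¹ * ι (f u 1)
          rw [map_mul, map_inv₀, hιc]
      have hmem : t * u * t⁻¹ ∈ V₂ := ⟨hconjW t htL u hu.1, _, key⟩
      exact ⟨hmem, φinj (by rw [hf _ hmem, key])⟩
  -- the eigenvector
  have hvZ : v ∈ Z := hv.2.1
  have hvB : v ∈ B := hv.1
  have hconjZ : ∀ h ∈ H, ∀ u ∈ Z, h * u * h⁻¹ ∈ Z := fun h hh u hu =>
    (Subgroup.mem_normalizer_iff.1 (hC.hHZ hh) u).1 hu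
  have hηZ : η ∈ Z := by
    rw [hη, commutatorElement_def, ← ht'e v hvB]
    exact mul_mem (hconjZ _ ht'H _ hvZ) (inv_mem hvZ)
  refine ⟨hpart1, exists_eigen_subgroup hp2 H Z (B₂ ⊓ Z) hC.hZp hC.hZc hC.hHZ inf_le_right ht'H hηZ ?_
    (fun h => hηne ((hψ0 η hηW).2 h.1)) ⟨hWp η hηW, pow_mem hηZ p⟩ c hc ?_⟩
  · refine mem_normalizer_of_cj_le ?_
    rintro _ ⟨u, hu, rfl⟩
    show ht' * u * ht'⁻¹ ∈ B₂ ⊓ Z
    refine Subgroup.mem_inf.2 ⟨?_, hconjZ _ ht'H _ hu.2⟩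
    rw [ht'e u (hWB (hB₂W.le hu.1))]
    exact (Subgroup.mem_normalizer_iff.1 (hLB₂ htL) u).1 hu.1
  · refine Subgroup.mem_inf.2 ⟨?_, mul_mem (inv_mem (pow_mem hηZ c)) (hconjZ _ ht'H _ hηZ)⟩
    rw [ht'e η (hWB hηW)]
    have hψpow : ∀ n : ℕ, ψ (η ^ n) = (n : F) • ψ η := fun n => by
      induction n with
      | zero => simp [ψ1]
      | succ n ih => rw [pow_succ, hψmul _ (pow_mem hηW n) _ hηW, ih, Nat.cast_succ, add_smul, one_smul]
    have hm := hconjW t htL η hηW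
    refine (hψ0 _ (mul_mem (inv_mem (pow_mem hηW c)) hm)).1 ?_
    rw [hψmul _ (inv_mem (pow_mem hηW c)) _ hm, ψinv _ (pow_mem hηW c), hψpow, hτ t htL η hηW]
    funext i
    fin_cases i <;> simp [mulVec, dotProduct, Fin.sum_univ_two, hη1, ht00, ht10, hγdef, T']

end Cfg

end Cfsg.Agent.Solv.ZJFail
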