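import Cfsg.Agent.Lib.Solv.ZJFail.Loc
import Cfsg.Agent.Lib.Fusion.ZJ
import Cfsg.Agent.Lib.Fusion.Sections
import Cfsg.Agent.Lib.Fusion.LinearStable
import Cfsg.Agent.Lib.Fusion.KInf

/-!
# Failure of control of fusion by the centre of the Thompson subgroup
-/

set_option autoImplicit false
set_option linter.style.haveILetI false

open scoped commutatorElement

namespace Cfsg.Agent.Solv.ZJFail

open Cfsg.Agent.Fusion

universe u

variable {G : Type u} [Group G] [Finite G] {p : ℕ} [hp : Fact p.Prime]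

omit hp in
theorem centerThompsonAOf_subgroupOf {M S : Subgroup G} (hSM : S ≤ M) :
    (Cfsg.centerThompsonAOf (S.subgroupOf M)).map M.subtype = Cfsg.centerThompsonAOf S := by
  rw [← zFam_comm_eq, ← zFam_comm_eq]
  set ok := fun A : Subgroup G => IsMulCommutative A
  set okM := fun A : Subgroup M => IsMulCommutative A
  have hmem : ∀ A : Subgroup M, A ∈ maxIn okM (S.subgroupOf M) → A.map M.subtype ∈ maxIn ok S := by
    intro A hA
    refine ⟨(Subgroup.map_mono hA.1).trans (Subgroup.map_subgroupOf_eq_of_le hSM).le,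
      (comm_map_iff A).1 hA.2.1, fun B hB hB' => ?_⟩
    have h1 := hA.2.2 (B.subgroupOf M) (Subgroup.comap_mono hB)
      ((comm_map_iff _).2 (by rwa [Subgroup.map_subgroupOf_eq_of_le (hB.trans hSM)]))
    rw [← Subgroup.card_map_of_injective M.subtype_injective,
      Subgroup.map_subgroupOf_eq_of_le (hB.trans hSM)] at h1
    rwa [Subgroup.card_map_of_injective M.subtype_injective]
  have hmem' : ∀ A : Subgroup G, A ∈ maxIn ok S → A.subgroupOf M ∈ maxIn okM (S.subgroupOf M) := by
    intro A hA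
    refine ⟨Subgroup.comap_mono hA.1, (comm_map_iff _).2 (by
      rw [Subgroup.map_subgroupOf_eq_of_le (hA.1.trans hSM)]; exact hA.2.1), fun B hB hB' => ?_⟩
    have h1 := hA.2.2 (B.map M.subtype)
      ((Subgroup.map_mono hB).trans (Subgroup.map_subgroupOf_eq_of_le hSM).le) ((comm_map_iff B).1 hB')
    rwa [Subgroup.card_map_of_injective M.subtype_injective, ← Subgroup.map_subgroupOf_eq_of_le (hA.1.trans hSM),
      Subgroup.card_map_of_injective M.subtype_injective] at h1
  ext x
  constructor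
  · rintro ⟨y, hy, rfl⟩
    refine ⟨hy.1, Subgroup.mem_sInf.2 fun A hA => ?_⟩
    exact Subgroup.mem_sInf.1 hy.2 _ (hmem' A hA)
  · intro hx
    refine ⟨⟨x, hSM hx.1⟩, ⟨hx.1, Subgroup.mem_sInf.2 fun A hA => ?_⟩, rfl⟩
    obtain ⟨y, hy, e⟩ := Subgroup.mem_sInf.1 hx.2 _ (hmem A hA)
    rwa [show (⟨x, hSM hx.1⟩ : M) = y from Subtype.ext e.symm]

/-- The automiser of a subgroup of order `p` has order at most `p - 1`. -/
theorem relIndex_le_of_card (H C : Subgroup G) (hC : Nat.card C = p) :
    (H ⊓ Subgroup.centralizer (C : Set G)).relIndex (H ⊓ Subgroup.normalizer (C : Set G)) ≤ p - 1 := by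
  haveI : IsCyclic C := isCyclic_of_prime_card hC
  have h1 : (H ⊓ Subgroup.centralizer (C : Set G)).relIndex (H ⊓ Subgroup.normalizer (C : Set G)) =
      (Subgroup.centralizer (C : Set G)).relIndex (H ⊓ Subgroup.normalizer (C : Set G)) := by
    rw [← Subgroup.inf_relIndex_right,
      ← Subgroup.inf_relIndex_right (Subgroup.centralizer (C : Set G)) (H ⊓ Subgroup.normalizer (C : Set G))]
    congr 1
    ac_rfl
  have h3 : (Subgroup.centralizer (C : Set G)).relIndex (Subgroup.normalizer (C : Set G)) ≤ p - 1 := by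
    have h4 : (Subgroup.centralizer (C : Set G)).relIndex (Subgroup.normalizer (C : Set G)) =
        Nat.card C.normalizerMonoidHom.range := by
      rw [← Subgroup.index_ker, Subgroup.normalizerMonoidHom_ker]; rfl
    rw [h4]
    refine (Subgroup.card_le_card_group _).trans ?_
    rw [IsCyclic.card_mulAut, hC, Nat.totient_prime hp.out]
  rw [h1]
  exact (Subgroup.relIndex_le_of_le_right inf_le_right (Subgroup.index_ne_zero_of_finite)).trans h3

/-- The conclusion passes from a subgroup containing the Sylow subgroup. -/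
theorem concl_of_subgroup {M Z : Subgroup G} (hZM : Z ≤ M)
    (h : Concl p (Subgroup.normalizer ((Z.subgroupOf M : Subgroup M) : Set M)) (Z.subgroupOf M)) :
    Concl p (Subgroup.normalizer (Z : Set G)) Z := by
  set H := Subgroup.normalizer (Z : Set G)
  have hH' : Subgroup.normalizer ((Z.subgroupOf M : Subgroup M) : Set M) = H.subgroupOf M :=
    (Subgroup.subgroupOf_normalizer_eq hZM).symm
  rw [hH'] at h
  obtain ⟨hinv, C, hC, hCp, hCr⟩ := h
  refine ⟨involves_trans hinv ?_, C.map M.subtype, ?_, ?_, ?_⟩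
  · -- a subgroup is involved
    let K : Subgroup H := M.subgroupOf H
    let e : K →* (H.subgroupOf M : Subgroup M) :=
      { toFun := fun k => ⟨⟨((k : H) : G), k.2⟩, (k : H).2⟩
        map_one' := rfl
        map_mul' := fun _ _ => rfl }
    exact involves_of_surjective e fun y => ⟨⟨⟨((y : M) : G), y.2⟩, (y : M).2⟩, rfl⟩
  · exact (Subgroup.map_mono hC).trans (Subgroup.map_subgroupOf_eq_of_le hZM).le
  · rw [Subgroup.card_map_of_injective M.subtype_injective, hCp]
  set C' := C.map M.subtype with hC'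
  have hC'p : Nat.card C' = p := by rw [hC', Subgroup.card_map_of_injective M.subtype_injective, hCp]
  have hCc : C'.subgroupOf M = C := Subgroup.comap_map_eq_self_of_injective M.subtype_injective C
  have hn : Subgroup.normalizer (C : Set M) = (Subgroup.normalizer (C' : Set G)).subgroupOf M := by
    rw [Subgroup.subgroupOf_normalizer_eq (Subgroup.map_subtype_le C), hCc]
  have hc : Subgroup.centralizer (C : Set M) = (Subgroup.centralizer (C' : Set G)).subgroupOf M := by
    ext x
    rw [Subgroup.mem_subgroupOf, Subgroup.mem_centralizer_iff, Subgroup.mem_centralizer_iff]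
    constructor
    · rintro h _ ⟨y, hy, rfl⟩
      exact congrArg Subtype.val (h y hy)
    · exact fun h y hy => Subtype.ext (h y ⟨y, hy, rfl⟩)
  rw [hn, hc] at hCr
  refine le_antisymm (relIndex_le_of_card H C' hC'p) ?_
  rw [← hCr]
  simp only [Subgroup.subgroupOf]
  rw [← Subgroup.comap_inf, ← Subgroup.comap_inf, Subgroup.relIndex_comap]
  exact Subgroup.relIndex_le_of_le_right (Subgroup.map_comap_le _ _) (Subgroup.index_ne_zero_of_finite)

/-- Failure of the conclusion forces control of fusion. -/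
theorem fix_of_not_concl (hp2 : p ≠ 2) :
    ∀ (n : ℕ) (G : Type u) [Group G] [Finite G], Nat.card G ≤ n → ∀ S : Subgroup G, SylIn p S ⊤ →
      ¬ Concl p (Subgroup.normalizer (Cfsg.centerThompsonAOf S : Set G)) (Cfsg.centerThompsonAOf S) →
      ∀ (A : Set G) (g : G), A ⊆ S → lcj g A ⊆ S →
        Fix (Subgroup.normalizer (Cfsg.centerThompsonAOf S : Set G)) A g := by
  intro n
  induction n using Nat.strong_induction_on with
  | _ n IH =>
  intro G _ _ hcard S hS hfail
  set Z := Cfsg.centerThompsonAOf S with hZdef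
  set H := Subgroup.normalizer (Z : Set G) with hHdef
  set ok := fun A : Subgroup G => IsMulCommutative A
  have hok : ReplFamily ok := replFamily_comm
  have hzf : zFam ok S = Z := zFam_comm_eq S
  have hZS : Z ≤ S := hzf ▸ inf_le_left
  have hSH : S ≤ H := by
    rw [hHdef, ← hzf]
    exact Subgroup.le_normalizer.trans (hok.normalizer_le_zFam S)
  have hZA : ∀ A ∈ maxIn ok S, Z ≤ A := fun A hA => hzf ▸ hok.zFam_le_of_mem hA
  obtain ⟨A₀, hA₀⟩ := hok.maxIn_nonempty S
  have hZc : IsMulCommutative Z := isMulCommutative_of_le hA₀.2.1 (hZA A₀ hA₀)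
  -- fusion inside a proper subgroup containing `S`
  have hsub : ∀ M : Subgroup G, S ≤ M → M ≠ ⊤ → ∀ g ∈ M, ∀ A : Set G, A ⊆ S → lcj g A ⊆ S → Fix H A g := by
    intro M hSM hM g hg A hA hgA
    have hlt : Nat.card M < n := by
      refine lt_of_lt_of_le ?_ hcard
      by_contra hcon
      exact hM (Subgroup.eq_top_of_le_card _ (by omega))
    have hS' : SylIn p (S.subgroupOf M) ⊤ :=
      ⟨le_top, hS.isPGroup.comap_subtype, by
        rw [Subgroup.relIndex_top_right]; exact (hS.mono hSM le_top).not_dvd⟩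
    have hZ' : Cfsg.centerThompsonAOf (S.subgroupOf M) = Z.subgroupOf M := by
      rw [hZdef, ← centerThompsonAOf_subgroupOf hSM]
      exact (Subgroup.comap_map_eq_self_of_injective M.subtype_injective _).symm
    obtain ⟨h, hh, he⟩ := IH _ hlt M le_rfl (S.subgroupOf M) hS'
      (by rw [hZ']; exact fun hc => hfail (concl_of_subgroup (hZS.trans hSM) hc))
      (M.subtype ⁻¹' A) ⟨g, hg⟩ (fun a ha => hA ha) (by
        rintro _ ⟨a, ha, rfl⟩
        exact hgA ⟨(a : G), ha, rfl⟩)
    rw [hZ', ← Subgroup.subgroupOf_normalizer_eq (hZS.trans hSM)] at hh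
    exact ⟨h, hh, fun a ha => congrArg Subtype.val (he ⟨a, hSM (hA ha)⟩ ha)⟩
  set N := Z.normalCore
  haveI : N.Normal := Z.normalCore_normal
  have hNZ : N ≤ Z := Z.normalCore_le
  by_cases hZN : Z ≤ N
  · intro A g _ _
    haveI : Z.Normal := (le_antisymm hNZ hZN) ▸ Z.normalCore_normal
    exact ⟨g, by rw [hHdef, Subgroup.normalizer_eq_top]; exact Subgroup.mem_top g, fun a _ => rfl⟩
  -- the element fixed by `S` modulo the core
  obtain ⟨z, hzZ, hzN, hzp, hSz⟩ : ∃ z ∈ Z, z ∉ N ∧ z ^ p ∈ N ∧ ∀ s ∈ S, ⁅s, z⁆ ∈ N := by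
    haveI := hS.isPGroup.isNilpotent
    have hCN : ¬ Z.subgroupOf S ≤ N.subgroupOf S := fun h => hZN fun v hv => h (x := ⟨v, hZS hv⟩) hv
    have hQC : (⊤ : Subgroup S) ≤ Subgroup.normalizer ((Z.subgroupOf S : Subgroup S) : Set S) := by
      rw [← Subgroup.subgroupOf_normalizer_eq hZS]
      exact fun x _ => hSH x.2
    obtain ⟨x, hx, hxN, hxS⟩ := exists_fixed_mod (N := N.subgroupOf S) hQC hCN
    have hxc : (x : G) ∈ cenMod N (S : Set G) := mem_cenMod.2 fun s hs => hxS ⟨s, hs⟩ trivial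
    obtain ⟨k, hk⟩ := hS.isPGroup x
    have hex : ∃ j, (x : G) ^ p ^ j ∈ N := ⟨k, by
      rw [show (x : G) ^ p ^ k = 1 from congrArg Subtype.val hk]; exact one_mem _⟩
    classical
    have hj0 : Nat.find hex ≠ 0 := fun h0 => hxN (by
      have := Nat.find_spec hex
      rw [h0, pow_zero, pow_one] at this
      exact this)
    obtain ⟨j, hj⟩ := Nat.exists_eq_succ_of_ne_zero hj0
    refine ⟨(x : G) ^ p ^ j, pow_mem hx _, Nat.find_min hex (by omega), ?_, fun s hs =>
      comm_swap_mem (mem_cenMod.1 (pow_mem hxc _) s hs)⟩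
    rw [← pow_mul, ← pow_succ]
    have := Nat.find_spec hex
    rwa [hj] at this
  have hM : ∀ g : G, ⁅g, z⁆ ∈ N → ∀ A : Set G, A ⊆ S → lcj g A ⊆ S → Fix H A g := by
    intro g hg A hA hgA
    refine hsub (cenMod N ({z} : Set G)) (fun s hs => mem_cenMod.2 fun w hw => ?_) (fun h => hzN ?_) g
      (mem_cenMod.2 fun w hw => ?_) A hA hgA
    · rw [Set.mem_singleton_iff.1 hw]; exact hSz s hs
    · intro b
      rw [conj_eq_comm_mul]
      exact mul_mem (hNZ (mem_cenMod.1 (h.ge (Subgroup.mem_top b)) z rfl)) hzZ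
    · rw [Set.mem_singleton_iff.1 hw]; exact hg
  have hNS : N ≤ S := hNZ.trans hZS
  intro A g hA hgA
  by_cases hzc : z ∈ pCore p G
  · have hb : Base p S H Z N ⊥ z :=
      ⟨hS.isPGroup, hSH, hZS, hZc, le_rfl, inferInstance, inferInstance, bot_le, hNZ, hzZ, hSz, hzp, hM, hfail,
        Or.inl hzc⟩
    have e : Max ⊥ S = maxIn ok S := by
      have : (AbMod (⊥ : Subgroup G)) = ok := funext fun A => propext
        ⟨fun h => ⟨⟨fun u v => Subtype.ext (commutatorElement_eq_one_iff_mul_comm.1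
          (Subgroup.mem_bot.1 (h.2 (Subgroup.commutator_mem_commutator u.2 v.2))))⟩⟩,
        fun h => ⟨bot_le, Subgroup.commutator_le.2 fun u hu v hv => Subgroup.mem_bot.2
          (commutatorElement_eq_one_iff_mul_comm.2 (congrArg Subtype.val (h.1.1 ⟨u, hu⟩ ⟨v, hv⟩)))⟩⟩
      rw [Max, this]
    refine fix_local hp2 hb _ ⊤ S le_rfl hS le_rfl hNS (hZS hzZ)
      (fun A hA => ⟨hZA A (e ▸ hA) hzZ, hNZ.trans (hZA A (e ▸ hA))⟩) ?_ g (Subgroup.mem_top g) A hA hgA
    intro x hx A _ _
    refine ⟨x, ?_, fun a _ => rfl⟩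
    have hJ : JMod ⊥ S = Cfsg.thompsonSubgroupAOf S := by
      rw [JMod, e, Cfsg.thompsonSubgroupAOf, Cfsg.thompsonSubgroupA, map_sSup_subtype, image_maxAbelian]
    have hx2 := hx.2
    rw [hJ] at hx2
    rw [hHdef, hZdef, Cfsg.centerThompsonAOf]
    refine normalizer_inf_le _ _ ⟨hx2, mem_normalizer_of_cj_le ?_⟩
    rw [cj_centralizer, cj_eq_self hx2]
  · have hb : Base p S H Z N N z :=
      ⟨hS.isPGroup, hSH, hZS, hZc, le_rfl, inferInstance, inferInstance, le_rfl, hNZ, hzZ, hSz, hzp, hM, hfail,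
        Or.inr rfl⟩
    refine fix_local hp2 hb _ ⊤ S le_rfl hS le_rfl hNS (hZS hzZ)
      (hb.good_of_eq rfl le_rfl (hZS hzZ)) ?_ g (Subgroup.mem_top g) A hA hgA
    intro x hx A hA hxA
    refine hsub (Subgroup.normalizer (JMod N S : Set G)) (Subgroup.le_normalizer.trans (normalizer_le_jMod S))
      (fun h => hzc ?_) x hx.2 A hA hxA
    haveI : (JMod N S).Normal := Subgroup.normalizer_eq_top_iff.1 h
    obtain ⟨A', hA'⟩ := max_nonempty (K := N) hNS
    exact le_pCore (hS.isPGroup.to_le (jMod_le S))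
      ((le_sSup hA' : A' ≤ JMod N S) (hb.good_of_eq rfl le_rfl (hZS hzZ) A' hA').1)

end Cfsg.Agent.Solv.ZJFail
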